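import Cfsg.Agent.H27.CoprimeSizes.Basic

/-!
Centralisers of elements of class size `m` are abelian: the case that `n` is not a prime power, and
the case that the centralisers of class size `m * n` have no noncentral `q`-elements.
-/

set_option autoImplicit false
set_option linter.style.haveILetI false

namespace H27.CMN

open Subgroup
open H36 (IsPEl isPEl_of_mem)

local notation "C[" x "]" => Subgroup.centralizer (Singleton.singleton x : Set _)

theorem le_cent_of_primary {Γ : Type*} [Group Γ] [Finite Γ] {T : Subgroup Γ}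
    (h : ∀ (p : ℕ) [Fact p.Prime] (w : Γ), w ∈ T → IsPEl p w → T ≤ C[w]) {a : Γ} (ha : a ∈ T) :
    T ≤ C[a] :=
  le_cent_iff.mpr (mem_of_primary _ a fun p _ i hi => le_cent_iff.mp (h p _ (T.pow_mem ha i) hi))

section Abstract

variable {Γ : Type*} [Group Γ] [Finite Γ] {n q r : ℕ} [hqp : Fact q.Prime] [hrp : Fact r.Prime]

/-- If class sizes of elements of order prime to `q` or to `r` are `1` or `n`, where `q, r ∣ n`,
then elements of other prime power orders are central. -/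
theorem other_central (hn : 1 < n) (hqn : q ∣ n) (hrn : r ∣ n) (hqr : q ≠ r)
    (H : ∀ w : Γ, (orderOf w).Coprime q ∨ (orderOf w).Coprime r →
      (C[w]).index = 1 ∨ (C[w]).index = n)
    {s : ℕ} [hs : Fact s.Prime] (hsq : s ≠ q) (hsr : s ≠ r) {h : Γ} (hh : IsPEl s h) :
    h ∈ center Γ := by
  by_contra hhZ
  have hcop : ∀ (p t : ℕ) [Fact p.Prime] [Fact t.Prime] (g : Γ), IsPEl p g → p ≠ t →
      (orderOf g).Coprime t := by
    intro p t hp ht g hg hpt
    obtain ⟨i, hi⟩ := hg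
    rw [hi]
    exact ((Nat.coprime_primes hp.out ht.out).mpr hpt).pow_left i
  have hidx : ∀ (p : ℕ) [Fact p.Prime] (g : Γ), IsPEl p g → g ∉ center Γ → (C[g]).index = n := by
    intro p _ g hg hgZ
    refine (H g ?_).resolve_left fun h1 => hgZ (index_cent_eq_one_iff.mp h1)
    rcases eq_or_ne p q with rfl | hpq
    · exact Or.inr (hcop p r g hg hqr)
    · exact Or.inl (hcop p q g hg hpq)
  have hle : ∀ (p t : ℕ) [Fact p.Prime] [Fact t.Prime] (g w : Γ), IsPEl p g → g ∉ center Γ →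
      IsPEl t w → p ≠ t → w ∈ C[g] → (p ≠ q ∧ t ≠ q) ∨ (p ≠ r ∧ t ≠ r) → C[g] ≤ C[w] := by
    intro p t hp ht g w hg hgZ hw hpt hwg hpq
    have hc : Commute g w := mem_cent_comm.mp hwg
    have hco : (orderOf g).Coprime (orderOf w) := H36.coprime_of_isPEl hpt hg hw
    have hgw : (C[g * w]).index = n := by
      refine (H (g * w) ?_).resolve_left fun h1 => ?_
      · rw [hc.orderOf_mul_eq_mul_orderOf_of_coprime hco]
        rcases hpq with ⟨h1, h2⟩ | ⟨h1, h2⟩
        · exact Or.inl ((hcop p q g hg h1).mul_left (hcop t q w hw h2))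
        · exact Or.inr ((hcop p r g hg h1).mul_left (hcop t r w hw h2))
      · have h2 := index_left_dvd_mul hc hco
        rw [hidx p g hg hgZ, h1] at h2
        exact hn.ne' (Nat.dvd_one.mp h2)
    have heq : C[g * w] = C[g] := eq_of_le_of_card_ge (cent_mul_le_left hc hco) (le_of_eq
      (Nat.eq_of_mul_eq_mul_right (cent_pos g)
        (by rw [card_cent_mul_index, hidx p g hg hgZ, ← hgw, card_cent_mul_index])))
    exact heq ▸ cent_mul_le_right hc hco
  have hcontains : ∀ (p t : ℕ) [Fact p.Prime] [Fact t.Prime] (g v : Γ), IsPEl p g →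
      g ∉ center Γ → IsPEl t v → v ∉ center Γ →
      ∃ w ∈ C[g], IsPEl t w ∧ w ∉ center Γ := fun p t _ _ g v hg hgZ hv hvZ =>
    Sizes.exists_pEl_in_cent hv hvZ (dvd_of_eq ((hidx p g hg hgZ).trans (hidx t v hv hvZ).symm))
  obtain ⟨v₀, hv₀, hv₀Z⟩ : ∃ v : Γ, IsPEl q v ∧ v ∉ center Γ := by
    by_contra hall
    push Not at hall
    obtain ⟨Q⟩ : Nonempty (Sylow q Γ) := inferInstance
    refine (not_dvd_index_iff.mpr ⟨Q, fun a ha => ?_⟩) (hidx s h hh hhZ ▸ hqn)
    exact center_le_centralizer _ (hall a (isPEl_of_mem Q.isPGroup' ha))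
  -- centralisers of noncentral `s`-elements are abelian
  have habs : ∀ g : Γ, IsPEl s g → g ∉ center Γ → ∀ a ∈ C[g], C[g] ≤ C[a] := by
    intro g hg hgZ a ha
    refine le_cent_of_primary (fun p hp w hw hwp => ?_) ha
    rcases eq_or_ne p s with rfl | hps
    · obtain ⟨v, hvg, hv, hvZ⟩ := hcontains p q g v₀ hg hgZ hv₀ hv₀Z
      have h1 : C[g] ≤ C[v] := hle p q g v hg hgZ hv hsq hvg (Or.inr ⟨hsr, hqr⟩)
      have h2 : C[g] = C[v] := eq_of_le_of_card_ge h1 (le_of_eq
        (Nat.eq_of_mul_eq_mul_right (cent_pos g) (by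
          rw [card_cent_mul_index, hidx p g hg hgZ, ← hidx q v hv hvZ, card_cent_mul_index])))
      rw [h2]
      exact hle q p v w hv hvZ hwp hsq.symm (h2 ▸ hw) (Or.inr ⟨hqr, hsr⟩)
    · refine hle s p g w hg hgZ hwp hps.symm hw ?_
      rcases eq_or_ne p q with rfl | hpq
      · exact Or.inr ⟨hsr, hqr⟩
      · exact Or.inl ⟨hsq, hpq⟩
  -- hence all centralisers of noncentral elements are abelian, of the same index
  have htwo : ∀ y : Γ, (C[y]).index = 1 ∨ (C[y]).index = n := by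
    intro y
    by_cases hy : y ∈ center Γ
    · exact Or.inl (index_cent_eq_one_iff.mpr hy)
    obtain ⟨p, hp, i, hgp, hgZ⟩ := H36.exists_primary_not_mem (center Γ) hy
    obtain ⟨h', hh'g, hh', hh'Z⟩ := hcontains p s (y ^ i) h hgp hgZ hh hhZ
    have h1 : C[h'] ≤ C[y ^ i] := habs h' hh' hh'Z _ (mem_cent_symm.mp hh'g)
    have h2 : C[h'] = C[y ^ i] := eq_of_le_of_card_ge h1 (le_of_eq
      (Nat.eq_of_mul_eq_mul_right (cent_pos (y ^ i)) (by
        rw [card_cent_mul_index, hidx p _ hgp hgZ, ← hidx s h' hh' hh'Z, card_cent_mul_index])))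
    have hyh' : y ∈ C[h'] := h2 ▸ mem_cent_comm.mpr (Commute.pow_self y i)
    have h3 : C[y] = C[y ^ i] :=
      le_antisymm (cent_le_cent_pow y i) (h2 ▸ habs h' hh' hh'Z y hyh')
    exact Or.inr (h3 ▸ hidx p _ hgp hgZ)
  obtain ⟨p, hp, a, hpa, -⟩ := H36.two_sizes_structure htwo hn ⟨h, hidx s h hh hhZ⟩
  subst hpa
  exact hqr (((Nat.prime_dvd_prime_iff_eq hqp.out hp.out).mp (hqp.out.dvd_of_dvd_pow hqn)).trans
    ((Nat.prime_dvd_prime_iff_eq hrp.out hp.out).mp (hrp.out.dvd_of_dvd_pow hrn)).symm)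

end Abstract

variable {G : Type*} [Group G] [Finite G] {m n : ℕ}

namespace Sizes

theorem index_mul_of_rel (S : Sizes G m n) {u w : G} (hu : (C[u]).index = m) (hw : w ∈ C[u])
    (hco : (orderOf u).Coprime (orderOf w)) (h : (C[w]).relIndex C[u] = n) :
    (C[u * w]).index = m * n := by
  rw [cent_mul_eq (mem_cent_comm.mp hw) hco, inf_comm,
    ← relIndex_mul_index (inf_le_right : C[w] ⊓ C[u] ≤ C[u]), inf_relIndex_right, hu, h, mul_comm]

/-- The case that `n` is not a prime power. -/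
theorem abelian_of_two_primes (S : Sizes G m n) {q r : ℕ} [hq : Fact q.Prime] [hr : Fact r.Prime]
    (hqn : q ∣ n) (hrn : r ∣ n) (hqr : q ≠ r) {x : G} (hx : (C[x]).index = m) :
    ∀ a ∈ C[x], C[x] ≤ C[a] := by
  obtain ⟨z, hz, hzm, hzx⟩ := S.exists_qEl_cent hqn hx
  obtain ⟨z', hz', hzm', hzx'⟩ := S.exists_qEl_cent hrn hx
  have H : ∀ w : C[x], (orderOf w).Coprime q ∨ (orderOf w).Coprime r →
      (C[w]).index = 1 ∨ (C[w]).index = n := by
    rintro w (hw | hw)
    · exact S.index_cases_of_eq hzx.symm hzm w (pEl_coprime hz hw)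
    · exact S.index_cases_of_eq hzx'.symm hzm' w (pEl_coprime hz' hw)
  set s := m.minFac
  haveI hs : Fact s.Prime := ⟨Nat.minFac_prime S.one_lt_m.ne'⟩
  have hsm : s ∣ m := Nat.minFac_dvd m
  have hsn := S.not_dvd_n hs.out hsm
  have hsq : s ≠ q := fun h => hsn (h ▸ hqn)
  have hsr : s ≠ r := fun h => hsn (h ▸ hrn)
  have hcen : ∀ w : C[x], IsPEl s w → w ∈ center C[x] := fun w hw =>
    other_central S.one_lt_n hqn hrn hqr H hsq hsr hw
  obtain ⟨y, hyC, hy, hyZ⟩ := S.exists_pEl_of_dvd_m hsm x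
  have hyle : C[x] ≤ C[y] := fun a ha => mem_cent.mpr
    (congrArg Subtype.val (mem_center_iff.mp
      (hcen ⟨y, hyC⟩ (by obtain ⟨k, hk⟩ := hy; exact ⟨k, by rw [Subgroup.orderOf_mk, hk]⟩))
      ⟨a, ha⟩))
  obtain ⟨hym, hyx⟩ := S.eq_of_le_m hx hyZ hyle
  have htwo : ∀ w : C[x], (C[w]).index = 1 ∨ (C[w]).index = n := by
    intro w
    obtain ⟨a, b, hab, ha, hb⟩ := H36.exists_pow_decomp (p := s) w
    have h1 : C[w] = C[w ^ a] := by
      conv_lhs => rw [← hab]
      exact cent_mul_center (hcen _ hb) _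
    rw [h1]
    exact S.index_cases_of_eq hyx.symm hym _ (pEl_coprime hy ha)
  intro a ha b hb
  have hall : (⟨a, ha⟩ : C[x]) ∈ center C[x] := by
    rw [← index_cent_eq_one_iff]
    refine (htwo _).resolve_right fun h2 => ?_
    obtain ⟨p, hp, k, hpk, -⟩ := H36.two_sizes_structure htwo S.one_lt_n ⟨_, h2⟩
    subst hpk
    exact hqr (((Nat.prime_dvd_prime_iff_eq hq.out hp.out).mp (hq.out.dvd_of_dvd_pow hqn)).trans
      ((Nat.prime_dvd_prime_iff_eq hr.out hp.out).mp (hr.out.dvd_of_dvd_pow hrn)).symm)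
  exact mem_cent.mpr (congrArg Subtype.val (mem_center_iff.mp hall ⟨b, hb⟩))

/-- The case that centralisers of class size `m * n` have no noncentral `q`-elements. -/
theorem abelian_of_no_qEl (S : Sizes G m n) {q : ℕ} [hq : Fact q.Prime] (hqn : q ∣ n)
    (hA : ∀ y : G, (C[y]).index = m * n → ∀ v ∈ C[y], IsPEl q v → v ∈ center G)
    {x : G} (hx : (C[x]).index = m) : ∀ a ∈ C[x], C[x] ≤ C[a] := by
  obtain ⟨z, hz, hzm, hzx⟩ := S.exists_qEl_cent hqn hx
  rw [← hzx]
  have hreg : ∀ (p : ℕ) [Fact p.Prime] (w : G), p ≠ q → w ∈ C[z] → IsPEl p w → C[z] ≤ C[w] := by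
    intro p _ w hpq hw hwp
    have hco : (orderOf z).Coprime (orderOf w) := H36.coprime_of_isPEl hpq.symm hz hwp
    refine relIndex_eq_one.mp ((S.rel_cases hzm hw hco).resolve_right fun h => ?_)
    refine S.not_center_of_m hzm (hA (z * w) (S.index_mul_of_rel hzm hw hco h) z ?_ hz)
    exact mem_cent_comm.mpr ((Commute.refl z).mul_left (mem_cent_comm.mp hw).symm)
  set s := m.minFac
  haveI hs : Fact s.Prime := ⟨Nat.minFac_prime S.one_lt_m.ne'⟩
  have hsm : s ∣ m := Nat.minFac_dvd m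
  have hsq : s ≠ q := fun h => S.not_dvd_n hs.out hsm (h ▸ hqn)
  obtain ⟨t, htC, ht, htZ⟩ := S.exists_pEl_of_dvd_m hsm z
  obtain ⟨htm, htz⟩ := S.eq_of_le_m hzm htZ (hreg s t hsq htC ht)
  intro a ha
  refine le_cent_of_primary (fun p hp w hw hwp => ?_) ha
  rcases eq_or_ne p q with rfl | hpq
  · have hw' : w ∈ C[t] := htz ▸ hw
    have hco : (orderOf t).Coprime (orderOf w) := H36.coprime_of_isPEl hsq ht hwp
    refine htz ▸ relIndex_eq_one.mp ((S.rel_cases htm hw' hco).resolve_right fun h => ?_)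
    have hwZ := hA (t * w) (S.index_mul_of_rel htm hw' hco h) w
      (mem_cent_comm.mpr ((mem_cent_comm.mp hw').mul_left (Commute.refl w))) hwp
    rw [relIndex_eq_one.mpr (fun b _ => mem_cent.mpr (mem_center_iff.mp hwZ b))] at h
    exact S.one_lt_n.ne h
  · exact hreg p w hpq hw hwp

end Sizes

end H27.CMN
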