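import Cfsg.Agent.H27.CoprimeSizes.Prelim

/-! Groups with class sizes `1, m, m * n`, `(m, n) = 1`: first consequences. -/

set_option autoImplicit false
set_option linter.style.haveILetI false

namespace H27.CMN

open Subgroup
open H36 (IsPEl isPEl_of_mem)

local notation "C[" x "]" => Subgroup.centralizer (Singleton.singleton x : Set _)

/-- The hypothesis on the class sizes. -/
structure Sizes (G : Type*) [Group G] (m n : ℕ) : Prop where
  one_lt_m : 1 < m
  one_lt_n : 1 < n
  cop : m.Coprime n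
  sizes : ∀ x : G, (C[x]).index = 1 ∨ (C[x]).index = m ∨ (C[x]).index = m * n
  ex_m : ∃ x : G, (C[x]).index = m
  ex_mn : ∃ x : G, (C[x]).index = m * n

variable {G : Type*} [Group G] {m n : ℕ}

namespace Sizes

theorem cases_of_not_center (S : Sizes G m n) {x : G} (hx : x ∉ center G) :
    (C[x]).index = m ∨ (C[x]).index = m * n :=
  (S.sizes x).resolve_left fun h => hx (index_cent_eq_one_iff.mp h)

theorem not_center_of_m (S : Sizes G m n) {x : G} (hx : (C[x]).index = m) : x ∉ center G :=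
  fun h => S.one_lt_m.ne (by rw [← hx, index_cent_eq_one_iff.mpr h])

theorem m_ne_mn (S : Sizes G m n) : m ≠ m * n := by
  have := S.one_lt_m
  have := S.one_lt_n
  intro h
  nlinarith

theorem not_center_of_mn (S : Sizes G m n) {x : G} (hx : (C[x]).index = m * n) :
    x ∉ center G := fun h => by
  rw [index_cent_eq_one_iff.mpr h] at hx
  have := Nat.eq_one_of_mul_eq_one_right hx.symm
  exact S.one_lt_m.ne this.symm

theorem dvd_mn (S : Sizes G m n) (x : G) : (C[x]).index ∣ m * n := by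
  rcases S.sizes x with h | h | h <;> simp [h]

theorem m_dvd (S : Sizes G m n) {x : G} (hx : x ∉ center G) : m ∣ (C[x]).index := by
  rcases S.cases_of_not_center hx with h | h <;> simp [h]

theorem not_dvd_m (S : Sizes G m n) {q : ℕ} (hq : q.Prime) (hqn : q ∣ n) : ¬ q ∣ m := fun h =>
  hq.one_lt.ne' (Nat.eq_one_of_dvd_coprimes S.cop h hqn)

theorem not_dvd_n (S : Sizes G m n) {r : ℕ} (hr : r.Prime) (hrm : r ∣ m) : ¬ r ∣ n := fun h =>
  hr.one_lt.ne' (Nat.eq_one_of_dvd_coprimes S.cop hrm h)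

theorem eq_m_of_not_dvd (S : Sizes G m n) {q : ℕ} {x : G} (hx : x ∉ center G) (hqn : q ∣ n)
    (h : ¬ q ∣ (C[x]).index) : (C[x]).index = m :=
  (S.cases_of_not_center hx).resolve_right fun he => h (he ▸ hqn.mul_left m)

variable [Finite G]

theorem eq_of_le_m (S : Sizes G m n) {u v : G} (hu : (C[u]).index = m) (hv : v ∉ center G)
    (hle : C[u] ≤ C[v]) : (C[v]).index = m ∧ C[v] = C[u] := by
  have hv' : (C[v]).index = m :=
    Nat.dvd_antisymm (hu ▸ index_dvd_of_le hle) (S.m_dvd hv)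
  refine ⟨hv', (eq_of_le_of_card_ge hle (le_of_eq ?_)).symm⟩
  refine Nat.eq_of_mul_eq_mul_right (cent_pos u) ?_
  rw [card_cent_mul_index, hu, ← hv', card_cent_mul_index]

theorem eq_of_le_mn (S : Sizes G m n) {u v : G} (hu : (C[u]).index = m * n)
    (hle : C[v] ≤ C[u]) : (C[v]).index = m * n ∧ C[v] = C[u] := by
  have hv' : (C[v]).index = m * n :=
    Nat.dvd_antisymm (S.dvd_mn v) (hu ▸ index_dvd_of_le hle)
  refine ⟨hv', eq_of_le_of_card_ge hle (le_of_eq ?_)⟩
  refine Nat.eq_of_mul_eq_mul_right (cent_pos u) ?_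
  rw [card_cent_mul_index, hu, ← hv', card_cent_mul_index]

theorem cent_le_of_mn (S : Sizes G m n) {u w : G} (hu : (C[u]).index = m * n) (hw : w ∈ C[u])
    (hco : (orderOf u).Coprime (orderOf w)) : C[u] ≤ C[w] := by
  have hc : Commute u w := mem_cent_comm.mp hw
  rw [← (S.eq_of_le_mn hu (cent_mul_le_left hc hco)).2]
  exact cent_mul_le_right hc hco

theorem rel_cases (S : Sizes G m n) {u w : G} (hu : (C[u]).index = m) (hw : w ∈ C[u])
    (hco : (orderOf u).Coprime (orderOf w)) :
    (C[w]).relIndex C[u] = 1 ∨ (C[w]).relIndex C[u] = n := by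
  have hc : Commute u w := mem_cent_comm.mp hw
  have h1 : (C[u * w]).index = (C[w]).relIndex C[u] * m := by
    rw [cent_mul_eq hc hco, inf_comm, ← relIndex_mul_index (inf_le_right : C[w] ⊓ C[u] ≤ C[u]),
      inf_relIndex_right, hu]
  have hnz : u * w ∉ center G := fun h => S.not_center_of_m hu <| by
    rw [← cent_eq_top_iff] at h ⊢
    exact top_le_iff.mp (h ▸ cent_mul_le_left hc hco)
  have hm : 0 < m := by have := S.one_lt_m; omega
  rcases S.cases_of_not_center hnz with h | h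
  · left
    rw [h] at h1
    exact Nat.eq_of_mul_eq_mul_right hm (by rw [one_mul]; exact h1.symm)
  · right
    rw [h, mul_comm m] at h1
    exact Nat.eq_of_mul_eq_mul_right hm h1.symm

/-- In `↥C[u]`, for `u` of class size `m`, elements of order prime to `u` have class size `1, n`. -/
theorem index_cases (S : Sizes G m n) {u : G} (hu : (C[u]).index = m) (w : C[u])
    (hco : (orderOf u).Coprime (orderOf w)) :
    (C[w]).index = 1 ∨ (C[w]).index = n := by
  rw [index_cent_subgroup]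
  exact S.rel_cases hu w.2 (by rwa [Subgroup.orderOf_coe])

theorem index_cases_of_eq (S : Sizes G m n) {u : G} {C : Subgroup G} (hC : C = C[u])
    (hu : (C[u]).index = m) (w : C) (hco : (orderOf u).Coprime (orderOf w)) :
    (C[w]).index = 1 ∨ (C[w]).index = n := by
  subst hC
  exact S.index_cases hu w hco

/-- Some prime power part of an element of class size `m` has the same centraliser. -/
theorem exists_primary (S : Sizes G m n) {x : G} (hx : (C[x]).index = m) :
    ∃ (p : ℕ) (_ : Fact p.Prime) (v : G), IsPEl p v ∧ (C[v]).index = m ∧ C[v] = C[x] := by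
  obtain ⟨p, hp, i, h1, h2⟩ := H36.exists_primary_not_mem (center G) (S.not_center_of_m hx)
  obtain ⟨h3, h4⟩ := S.eq_of_le_m hx h2 (cent_le_cent_pow x i)
  exact ⟨p, hp, _, h1, h3, h4⟩

theorem exists_noncentral_pEl_of_dvd (S : Sizes G m n) {r : ℕ} [hr : Fact r.Prime]
    (h : r ∣ m * n) : ∃ u : G, IsPEl r u ∧ u ∉ center G := by
  by_contra hall
  push Not at hall
  obtain ⟨y, hy⟩ := S.ex_mn
  obtain ⟨R⟩ : Nonempty (Sylow r G) := inferInstance
  refine (not_dvd_index_iff.mpr ⟨R, fun a ha => ?_⟩) (hy ▸ h)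
  exact center_le_centralizer _ (hall a (isPEl_of_mem R.isPGroup' ha))

omit [Finite G] in
theorem relIndex_eq (u v : G) :
    (center G).relIndex C[v] * (C[v]).index = (center G).relIndex C[u] * (C[u]).index := by
  rw [relIndex_center_mul, relIndex_center_mul]

/-- Noncentral `r`-elements in the centraliser of every element whose class size is not larger. -/
theorem exists_pEl_in_cent {r : ℕ} [hr : Fact r.Prime] {u : G} (hu : IsPEl r u)
    (huZ : u ∉ center G) {g : G} (hg : (C[g]).index ∣ (C[u]).index) :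
    ∃ w ∈ C[g], IsPEl r w ∧ w ∉ center G := by
  rw [exists_pEl_not_center_iff]
  have h1 : r ∣ (center G).relIndex C[u] :=
    (exists_pEl_not_center_iff _).mp ⟨u, mem_cent.mpr rfl, hu, huZ⟩
  obtain ⟨e, he⟩ := hg
  have h2 := relIndex_eq u g
  rw [he, mul_comm (C[g]).index, ← mul_assoc] at h2
  rw [Nat.eq_of_mul_eq_mul_right (cent_pos g) h2]
  exact h1.mul_right e

/-- For a prime `r` prime to `n`, every centraliser has a noncentral `r`-element if some does. -/
theorem exists_pEl_in_cent' (S : Sizes G m n) {r : ℕ} [hr : Fact r.Prime] (hrn : ¬ r ∣ n) {u : G}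
    (hu : IsPEl r u) (huZ : u ∉ center G) (g : G) :
    ∃ w ∈ C[g], IsPEl r w ∧ w ∉ center G := by
  rcases S.sizes g with hg | hg | hg
  · exact exists_pEl_in_cent hu huZ (hg ▸ one_dvd _)
  · exact exists_pEl_in_cent hu huZ (hg ▸ S.m_dvd huZ)
  · rcases S.cases_of_not_center huZ with hk | hk
    · rw [exists_pEl_not_center_iff]
      have h1 : r ∣ (center G).relIndex C[u] :=
        (exists_pEl_not_center_iff _).mp ⟨u, mem_cent.mpr rfl, hu, huZ⟩
      have h2 := relIndex_eq u g
      rw [hk, hg, mul_comm m n, ← mul_assoc] at h2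
      rw [← Nat.eq_of_mul_eq_mul_right (by have := S.one_lt_m; omega) h2] at h1
      exact (hr.out.dvd_mul.mp h1).resolve_right hrn
    · exact exists_pEl_in_cent hu huZ (dvd_of_eq (hg.trans hk.symm))

theorem exists_pEl_of_dvd_m (S : Sizes G m n) {r : ℕ} [hr : Fact r.Prime] (hrm : r ∣ m) (g : G) :
    ∃ w ∈ C[g], IsPEl r w ∧ w ∉ center G := by
  obtain ⟨u, hu, huZ⟩ := S.exists_noncentral_pEl_of_dvd (r := r) (hrm.mul_right n)
  exact S.exists_pEl_in_cent' (S.not_dvd_n hr.out hrm) hu huZ g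

/-- For each prime divisor `q` of `n` there is a `q`-element of class size `m`. -/
theorem exists_qEl (S : Sizes G m n) {q : ℕ} [hq : Fact q.Prime] (hqn : q ∣ n) :
    ∃ z : G, IsPEl q z ∧ (C[z]).index = m := by
  by_contra hno
  push Not at hno
  obtain ⟨x₀, hx₀⟩ := S.ex_m
  obtain ⟨s, hs, x, hxs, hx, -⟩ := S.exists_primary hx₀
  have hsq : s ≠ q := fun h => hno x (h ▸ hxs) hx
  obtain ⟨Q, hQ⟩ := exists_sylow_le_of_not_dvd_index (p := q) (H := C[x])
    (by rw [hx]; exact S.not_dvd_m hq.out hqn)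
  obtain ⟨u, hu, huZ⟩ := S.exists_noncentral_pEl_of_dvd (r := q) (hqn.mul_left m)
  have hu' : (C[u]).index = m * n := (S.cases_of_not_center huZ).resolve_left (hno u hu)
  refine S.not_center_of_m hx (cent_eq_top_iff.mp (eq_top_of_forall_conj_mem _ fun g => ?_))
  obtain ⟨w, hwg, hw, hwZ⟩ := exists_pEl_in_cent hu huZ (g := g) (hu' ▸ S.dvd_mn g)
  have hw' : (C[w]).index = m * n := (S.cases_of_not_center hwZ).resolve_left (hno w hw)
  obtain ⟨Q₁, hQ₁⟩ := (H36.isPGroup_zpowers_of_isPEl hw).exists_le_sylow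
  obtain ⟨h, rfl⟩ := MulAction.exists_smul_eq G Q Q₁
  have hwQ := hQ₁ (mem_zpowers w)
  rw [Sylow.coe_subgroup_smul] at hwQ
  obtain ⟨a, ha, hab⟩ := hwQ
  replace hab : h * a * h⁻¹ = w := hab
  have hxw : h * x * h⁻¹ ∈ C[w] := by
    rw [← hab, mem_cent_conj]
    have := mem_cent.mp (hQ ha)
    simpa [mul_assoc] using mem_cent.mpr this.symm
  have hle : C[w] ≤ C[h * x * h⁻¹] := S.cent_le_of_mn hw' hxw
    (H36.coprime_of_isPEl hsq.symm hw (H36.isPEl_conj hxs h))
  refine ⟨h, ?_⟩
  have hg := hle (mem_cent_symm.mp hwg)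
  rwa [mem_cent_conj] at hg

/-- Every Sylow subgroup for a prime divisor of `n` has a central element of class size `m`. -/
theorem exists_sylow_center (S : Sizes G m n) {q : ℕ} [hq : Fact q.Prime] (hqn : q ∣ n)
    (Q : Sylow q G) :
    ∃ z : G, IsPEl q z ∧ (C[z]).index = m ∧ z ∈ (Q : Subgroup G) ∧
      (Q : Subgroup G) ≤ C[z] := by
  obtain ⟨z, hz, hzm⟩ := S.exists_qEl hqn
  obtain ⟨g, hg⟩ := exists_smul_centralizer Q (x := z)
    (by rw [hzm]; exact S.not_dvd_m hq.out hqn)
  have hz' : IsPEl q (g⁻¹ * z * g) := by simpa using H36.isPEl_conj hz g⁻¹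
  refine ⟨g⁻¹ * z * g, hz', ?_, mem_sylow_of_centralizes Q hz' hg, le_cent_iff.mpr hg⟩
  have := index_cent_conj g⁻¹ z
  rw [inv_inv] at this
  rw [this, hzm]

/-- An element `x` of class size `m` has the centraliser of a `q`-element, for any `q ∣ n`. -/
theorem exists_qEl_cent (S : Sizes G m n) {q : ℕ} [hq : Fact q.Prime] (hqn : q ∣ n) {x : G}
    (hx : (C[x]).index = m) : ∃ z : G, IsPEl q z ∧ (C[z]).index = m ∧ C[z] = C[x] := by
  obtain ⟨p, hp, v, hv, hvm, hvx⟩ := S.exists_primary hx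
  rcases eq_or_ne p q with rfl | hpq
  · exact ⟨v, hv, hvm, hvx⟩
  have hqm : ¬ q ∣ (C[v]).index := by rw [hvm]; exact S.not_dvd_m hq.out hqn
  obtain ⟨Q, hQ⟩ := exists_sylow_le_of_not_dvd_index hqm
  obtain ⟨z, hz, hzm, hzQ, hQz⟩ := S.exists_sylow_center hqn Q
  have hco : (orderOf v).Coprime (orderOf z) := H36.coprime_of_isPEl hpq hv hz
  rcases S.rel_cases hvm (hQ hzQ) hco with h | h
  · refine ⟨z, hz, hzm, ?_⟩
    rw [(S.eq_of_le_m hvm (S.not_center_of_m hzm) (relIndex_eq_one.mp h)).2, hvx]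
  · exfalso
    refine (not_dvd_index_iff (p := q) (H := C[v] ⊓ C[z])).mpr ⟨Q, le_inf hQ hQz⟩ ?_
    rw [← relIndex_mul_index (inf_le_left : C[v] ⊓ C[z] ≤ C[v]), inf_relIndex_left, h]
    exact hqn.mul_right _

end Sizes

end H27.CMN
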