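import Cfsg.Agent.H27.CoprimeSizes.QBig

/-!
The number of conjugates of a centraliser of class size `m` is congruent to `1` modulo `n`.
-/

set_option autoImplicit false
set_option linter.style.haveILetI false

namespace H27.CMN

open Subgroup
open H36 (IsPEl isPEl_of_mem)

local notation "C[" x "]" => Subgroup.centralizer (Singleton.singleton x : Set _)

variable {G : Type*} [Group G] [Finite G] {m n : ℕ}

namespace Sizes

theorem cent_eq (S : Sizes G m n) {x v : G} (hx : (C[x]).index = m) (hv : v ∈ C[x])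
    (hvZ : v ∉ center G) : (C[v]).index = m ∧ C[v] = C[x] :=
  S.eq_of_le_m hx hvZ (S.abelian hx v hv)

theorem qEl_index (S : Sizes G m n) {q : ℕ} [hq : Fact q.Prime] (hqn : q ∣ n) {v : G}
    (hv : IsPEl q v) (hvZ : v ∉ center G) : (C[v]).index = m := by
  obtain ⟨Q, hQ⟩ := (H36.isPGroup_zpowers_of_isPEl hv).exists_le_sylow
  obtain ⟨z, -, hzm, -, hQz⟩ := S.exists_sylow_center hqn Q
  exact (S.cent_eq hzm (hQz (hQ (mem_zpowers v))) hvZ).1

theorem eq_mn_of_mem (S : Sizes G m n) {y v : G} (hy : (C[y]).index = m * n) (hv : v ∈ C[y])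
    (hvZ : v ∉ center G) : (C[v]).index = m * n :=
  (S.cases_of_not_center hvZ).resolve_left fun h => S.m_ne_mn
    ((S.cent_eq h (mem_cent_symm.mp hv) (S.not_center_of_mn hy)).1.symm.trans hy)

theorem not_dvd_relIndex_mn (S : Sizes G m n) {q : ℕ} [hq : Fact q.Prime] (hqn : q ∣ n) {y : G}
    (hy : (C[y]).index = m * n) : ¬ q ∣ (center G).relIndex C[y] := fun hd => by
  obtain ⟨v, hvy, hv, hvZ⟩ := (exists_pEl_not_center_iff _).mpr hd
  exact S.m_ne_mn ((S.qEl_index hqn hv hvZ).symm.trans (S.eq_mn_of_mem hy hvy hvZ))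

theorem exists_conj (S : Sizes G m n) {x x' : G} (hx : (C[x]).index = m)
    (hx' : (C[x']).index = m) : ∃ g : G, C[x'] = (C[x]).map (MulAut.conj g).toMonoidHom := by
  obtain ⟨q, hqp, hqn⟩ := Nat.exists_prime_and_dvd S.one_lt_n.ne'
  haveI : Fact q.Prime := ⟨hqp⟩
  obtain ⟨z, hz, hzm, hzx⟩ := S.exists_qEl_cent hqn hx
  obtain ⟨Q, hQ⟩ := exists_sylow_le_of_not_dvd_index (p := q) (H := C[z])
    (by rw [hzm]; exact S.not_dvd_m hqp hqn)
  obtain ⟨Q', hQ'⟩ := exists_sylow_le_of_not_dvd_index (p := q) (H := C[x'])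
    (by rw [hx']; exact S.not_dvd_m hqp hqn)
  have hzQ : z ∈ (Q : Subgroup G) := mem_sylow_of_centralizes Q hz (le_cent_iff.mp hQ)
  obtain ⟨g, rfl⟩ := MulAction.exists_smul_eq G Q Q'
  have h1 : g * z * g⁻¹ ∈ C[x'] := by
    refine hQ' ?_
    rw [Sylow.coe_subgroup_smul]
    exact Subgroup.mem_map_of_mem (MulAut.conj g).toMonoidHom hzQ
  have h2 : g * z * g⁻¹ ∉ center G := fun hc => S.not_center_of_m hzm (by
    have := (Subgroup.Normal.conj_mem inferInstance _ hc g⁻¹ : _ ∈ center G)
    simpa [mul_assoc] using this)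
  refine ⟨g, ?_⟩
  rw [← (S.cent_eq hx' h1 h2).2, cent_conj, hzx]

theorem relIndex_m (S : Sizes G m n) {x y : G} (hx : (C[x]).index = m)
    (hy : (C[y]).index = m * n) :
    (center G).relIndex C[x] = (center G).relIndex C[y] * n := by
  have h := relIndex_eq y x
  rw [hx, hy, mul_comm m n, ← mul_assoc] at h
  exact Nat.eq_of_mul_eq_mul_right (by have := S.one_lt_m; omega) h

omit [Finite G] in
theorem pow_relIndex_mem (g : G) : g ^ (center G).relIndex C[g] ∈ center G := by
  have h : ((⟨g, mem_cent.mpr rfl⟩ : C[g]) : C[g]) ^ ((center G).subgroupOf C[g]).index ∈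
      (center G).subgroupOf C[g] := Subgroup.pow_index_mem _ _
  exact mem_subgroupOf.mp h

theorem dvd_index_cent_mk (S : Sizes G m n) {g : G} (hg : (C[g]).index = m * n) :
    n ∣ (C[(g : G ⧸ center G)]).index := by
  set D := (C[(g : G ⧸ center G)]).comap (QuotientGroup.mk' (center G))
  have hidx : D.index = (C[(g : G ⧸ center G)]).index :=
    index_comap_of_surjective _ (QuotientGroup.mk'_surjective _)
  have hle : C[g] ≤ D := fun v hv => by
    rw [mem_comap, mem_cent]
    simp only [QuotientGroup.mk'_apply, ← QuotientGroup.mk_mul, mem_cent.mp hv]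
  have hcop : n.Coprime ((C[g]).relIndex D) := by
    refine Nat.coprime_of_dvd fun q hq hqn hd => ?_
    haveI : Fact q.Prime := ⟨hq⟩
    obtain ⟨R⟩ : Nonempty (Sylow q D) := inferInstance
    refine (not_dvd_index_iff.mpr ⟨R, fun v hv => ?_⟩) hd
    rw [mem_subgroupOf, mem_cent_comm]
    have hvD : (QuotientGroup.mk' (center G) (v : G)) * (g : G ⧸ center G) =
        (g : G ⧸ center G) * QuotientGroup.mk' (center G) (v : G) := mem_cent.mp v.2
    obtain ⟨i, hi⟩ := isPEl_of_mem R.isPGroup' hv
    refine commute_of_comm_mod (c := (v : G)⁻¹ * (g * v * g⁻¹)) (r := (center G).relIndex C[g])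
      (N := orderOf (v : G)) ?_ (by group)
      (mem_center_iff.mp (pow_relIndex_mem g) _).symm (pow_orderOf_eq_one _) ?_
    · refine QuotientGroup.eq.mp ?_
      simp only [QuotientGroup.mk'_apply] at hvD
      rw [QuotientGroup.mk_mul, QuotientGroup.mk_inv, QuotientGroup.mk_mul, ← hvD,
        mul_inv_cancel_right]
    · rw [Subgroup.orderOf_coe, hi]
      exact ((hq.coprime_iff_not_dvd.mpr (S.not_dvd_relIndex_mn hqn hg)).symm).pow_right i
  rw [← hidx]
  refine hcop.dvd_of_dvd_mul_left ?_
  rw [relIndex_mul_index hle, hg]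
  exact dvd_mul_left n m

theorem index_cent_out (g : G) :
    (C[((g : G ⧸ center G)).out]).index = (C[g]).index := by
  obtain ⟨c, hc⟩ := QuotientGroup.mk_out_eq_mul (center G) g
  rw [hc, H36.cent_mul_central c.2]

/-- The number of conjugates is `≡ 1 (mod n)`. -/
theorem index_normalizer_modEq (S : Sizes G m n) {x : G} (hx : (C[x]).index = m) :
    (normalizer ((C[x] : Subgroup G) : Set G)).index ≡ 1 [MOD n] := by
  classical
  cases nonempty_fintype G
  set C := C[x]
  set N := normalizer ((C : Subgroup G) : Set G)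
  set π := QuotientGroup.mk' (center G) with hπ
  let κ : G ⧸ center G → ℕ := fun a => (C[a.out]).index
  have hκ : ∀ g : G, κ (π g) = (C[g]).index := fun g => index_cent_out g
  -- elements of class size `m`
  have hlift : ∀ β : {β : C.map π // β ≠ 1}, ∃ v ∈ C, v ∉ center G ∧ π v = (β.1 : G ⧸ center G) := by
    rintro ⟨⟨_, v, hv, rfl⟩, hb⟩
    exact ⟨v, hv, fun hc => hb (Subtype.ext ((QuotientGroup.eq_one_iff v).mpr hc)), rfl⟩
  choose v hvC hvZ hvπ using hlift
  have hcentv : ∀ (t : G) (β : {β : C.map π // β ≠ 1}),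
      C[t * v β * t⁻¹] = C.map (MulAut.conj t).toMonoidHom := fun t β => by
    rw [cent_conj, (S.cent_eq hx (hvC β) (hvZ β)).2]
  let f : (G ⧸ N) × {β : C.map π // β ≠ 1} → {a : G ⧸ center G // κ a = m} := fun p =>
    ⟨π (p.1.out * v p.2 * p.1.out⁻¹), by
      rw [hκ, index_cent_conj]; exact (S.cent_eq hx (hvC p.2) (hvZ p.2)).1⟩
  have hf : Function.Bijective f := by
    constructor
    · rintro ⟨t, β⟩ ⟨t', β'⟩ h
      have h1 : π (t.out * v β * t.out⁻¹) = π (t'.out * v β' * t'.out⁻¹) := congrArg Subtype.val h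
      have h1' := QuotientGroup.eq.mp h1
      have h2 : C[t.out * v β * t.out⁻¹] = C[t'.out * v β' * t'.out⁻¹] := by
        have := H36.cent_mul_central (z := t.out * v β * t.out⁻¹) h1'
        rw [mul_inv_cancel_left] at this
        exact this.symm
      have hconj : ∀ (t u : G), u ∈ C.map (MulAut.conj t).toMonoidHom ↔ t⁻¹ * u * t ∈ C :=
        fun t u => ⟨fun ⟨a, ha, hau⟩ => by rw [← hau]; simpa [mul_assoc] using ha,
          fun hu => ⟨_, hu, by simp [mul_assoc]⟩⟩
      rw [hcentv, hcentv] at h2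
      have h3 : t'.out⁻¹ * t.out ∈ N := mem_normalizer_iff.mpr fun u => by
        have h4 := SetLike.ext_iff.mp h2 (t.out * u * t.out⁻¹)
        rw [hconj, hconj] at h4
        simpa [mul_assoc] using h4
      obtain rfl : t' = t := by
        have := QuotientGroup.eq.mpr h3
        rwa [QuotientGroup.out_eq', QuotientGroup.out_eq'] at this
      obtain rfl : β = β' := by
        apply Subtype.ext; apply Subtype.ext
        rw [← hvπ, ← hvπ]
        rw [map_mul, map_mul, map_mul, map_mul] at h1
        exact mul_left_cancel (mul_right_cancel h1)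
      rfl
    · rintro ⟨a, ha⟩
      obtain ⟨x₀, hx₀⟩ := S.exists_conj hx (x' := a.out) ha
      set t := (x₀ : G ⧸ N)
      obtain ⟨ν, hν⟩ := QuotientGroup.mk_out_eq_mul N x₀
      have hw : t.out⁻¹ * a.out * t.out ∈ C := by
        have h1 : a.out ∈ C.map (MulAut.conj x₀).toMonoidHom := hx₀ ▸ mem_cent.mpr rfl
        obtain ⟨w, hw, hwa⟩ := h1
        rw [hν, ← hwa]
        have := (mem_normalizer_iff.mp (N.inv_mem ν.2) w).mp hw
        simpa [mul_assoc] using this
      have hne : (⟨π (t.out⁻¹ * a.out * t.out), mem_map_of_mem _ hw⟩ : C.map π) ≠ 1 := by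
        intro h1
        have h2 := (QuotientGroup.eq_one_iff _).mp (congrArg Subtype.val h1)
        refine S.not_center_of_m ha ?_
        have := (Subgroup.Normal.conj_mem inferInstance _ h2 t.out : _ ∈ center G)
        simpa [mul_assoc] using this
      refine ⟨(t, ⟨_, hne⟩), Subtype.ext ?_⟩
      show π (t.out * v _ * t.out⁻¹) = a
      rw [map_mul, map_mul, hvπ]
      show π t.out * π (t.out⁻¹ * a.out * t.out) * π t.out⁻¹ = a
      rw [← map_mul, ← map_mul]
      simp only [mul_assoc, mul_inv_cancel_left, mul_inv_cancel, mul_one, hπ,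
        QuotientGroup.mk'_apply, QuotientGroup.out_eq']
  have hcardC : Nat.card (C.map π) = (center G).relIndex C := by
    rw [← relIndex_bot_left, ← map_bot π, relIndex_map_map, bot_sup_eq, QuotientGroup.ker_mk',
      sup_eq_left.mpr (center_le_centralizer _)]
  have hU : Nat.card {a : G ⧸ center G // κ a = m} + N.index = N.index * (center G).relIndex C := by
    have h1 : Nat.card {β : C.map π // β ≠ 1} + 1 = Nat.card (C.map π) := by
      rw [← Nat.card_congr (Equiv.sumCompl (fun β : C.map π => β = 1)), Nat.card_sum]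
      simp [add_comm]
    rw [← Nat.card_congr (Equiv.ofBijective f hf), Nat.card_prod, ← hcardC, ← h1, mul_add, mul_one]
    rfl
  -- elements of class size `m * n`
  set T := Finset.univ.filter fun a : G ⧸ center G => κ a = m * n
  have hTdvd : n ∣ T.card := by
    rw [Finset.card_eq_sum_ones]
    refine dvd_sum_of_conj_invariant n T (fun _ => 1) ?_ (fun _ _ => rfl) fun a ha => ?_
    · intro g a ha
      simp only [T, Finset.mem_filter, Finset.mem_univ, true_and] at ha ⊢
      obtain ⟨g, rfl⟩ := QuotientGroup.mk'_surjective _ g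
      obtain ⟨a, rfl⟩ := QuotientGroup.mk'_surjective _ a
      rw [← map_inv, ← map_mul, ← map_mul, hκ, index_cent_conj, ← hκ]
      exact ha
    · simp only [T, Finset.mem_filter, Finset.mem_univ, true_and] at ha
      obtain ⟨a, rfl⟩ := QuotientGroup.mk'_surjective _ a
      rw [hκ] at ha
      rw [mul_one]
      exact S.dvd_index_cent_mk ha
  have hT : Nat.card {a : G ⧸ center G // κ a = m * n} = T.card := by
    rw [Nat.card_eq_fintype_card, Fintype.card_subtype]
  have hone : ∀ a : G ⧸ center G, κ a = 1 ↔ a = 1 := fun a => by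
    obtain ⟨g, rfl⟩ := QuotientGroup.mk'_surjective _ a
    rw [hκ, index_cent_eq_one_iff]
    exact (QuotientGroup.eq_one_iff g).symm
  have htot : (center G).index = 1 + Nat.card {a : G ⧸ center G // κ a = m} + T.card := by
    rw [← hT, index_eq_card]
    simp only [Nat.card_eq_fintype_card, Fintype.card_subtype]
    have hsplit : (Finset.univ : Finset (G ⧸ center G)) =
        ({1} ∪ Finset.univ.filter fun a => κ a = m) ∪ Finset.univ.filter fun a => κ a = m * n := by
      ext a
      simp only [Finset.mem_univ, Finset.mem_union, Finset.mem_singleton, Finset.mem_filter,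
        true_and, true_iff]
      rw [← hone, or_assoc]
      exact S.sizes a.out
    have hm1 : ∀ a : G ⧸ center G, κ a = m → a ≠ 1 := fun a ha h => by
      rw [← hone, ha] at h; exact S.one_lt_m.ne' h
    conv_lhs => rw [← Finset.card_univ, hsplit]
    rw [Finset.card_union_of_disjoint, Finset.card_union_of_disjoint, Finset.card_singleton]
    · rw [Finset.disjoint_singleton_left]
      exact fun h => hm1 1 (Finset.mem_filter.mp h).2 rfl
    · rw [Finset.disjoint_left]
      intro a ha hb
      rw [Finset.mem_filter] at hb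
      rcases Finset.mem_union.mp ha with h | h
      · rw [Finset.mem_singleton] at h
        subst h
        rw [(hone 1).mpr rfl] at hb
        exact S.one_lt_m.ne (Nat.eq_one_of_mul_eq_one_right hb.2.symm).symm
      · exact S.m_ne_mn ((Finset.mem_filter.mp h).2.symm.trans hb.2)
  obtain ⟨y, hy⟩ := S.ex_mn
  have hb : n ∣ (center G).relIndex C := ⟨_, (S.relIndex_m hx hy).trans (mul_comm _ _)⟩
  have hidx : (center G).index = (center G).relIndex C * m := by
    rw [← relIndex_center_mul x, hx]
  rw [← ZMod.natCast_eq_natCast_iff]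
  have h1 : ((center G).index : ZMod n) = 0 :=
    (ZMod.natCast_eq_zero_iff _ _).mpr (hidx ▸ hb.mul_right m)
  have h2 : ((Nat.card {a : G ⧸ center G // κ a = m} + N.index : ℕ) : ZMod n) = 0 :=
    (ZMod.natCast_eq_zero_iff _ _).mpr (hU ▸ hb.mul_left _)
  rw [htot, Nat.cast_add, Nat.cast_add, (ZMod.natCast_eq_zero_iff _ _).mpr hTdvd, add_zero] at h1
  rw [Nat.cast_add, eq_neg_of_add_eq_zero_right h1] at h2
  rw [eq_neg_of_add_eq_zero_right h2, neg_neg, Nat.cast_one]

end Sizes

end H27.CMN
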