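import Cfsg.Agent.H27.CoprimeSizes.Count

/-!
Local analysis at a prime divisor of `m`: the centralisers of class size `m` are normal.
-/

set_option autoImplicit false
set_option linter.style.haveILetI false

namespace H27.CMN

open Subgroup
open H36 (IsPEl isPEl_of_mem)

local notation "C[" x "]" => Subgroup.centralizer (Singleton.singleton x : Set _)

variable {G : Type*} [Group G] [Finite G] {m n : ℕ}

theorem relIndex_ne_zero' (H K : Subgroup G) : H.relIndex K ≠ 0 :=
  index_ne_zero_of_finite (H := H.subgroupOf K)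

theorem factorization_card_eq {H K : Subgroup G} (hHK : H ≤ K) (r : ℕ) :
    (Nat.card H).factorization r + (H.relIndex K).factorization r =
      (Nat.card K).factorization r := by
  have h : Nat.card H * H.relIndex K = Nat.card K := by
    rw [← relIndex_bot_left, relIndex_mul_relIndex _ _ _ bot_le hHK, relIndex_bot_left]
  rw [← h, Nat.factorization_mul Nat.card_pos.ne'
    (relIndex_ne_zero' _ _), Finsupp.add_apply]

namespace Sizes

theorem mem_rPart_ab (S : Sizes G m n) {x w : G} {r : ℕ} [Fact r.Prime] (hx : (C[x]).index = m)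
    (hw : w ∈ C[x]) (hwr : IsPEl r w) : w ∈ rPart x r :=
  mem_centPow.mpr ⟨hw, S.abelian hx w hw, pow_sylowExp_iff.mpr hwr⟩

theorem card_rPart (S : Sizes G m n) {x : G} {r : ℕ} [hr : Fact r.Prime] (hx : (C[x]).index = m) :
    Nat.card (rPart x r) = r ^ (Nat.card C[x]).factorization r := by
  refine le_antisymm (H36.card_le_of_pSubgroup (isPGroup_rPart x) (rPart_le_cent x)) ?_
  obtain ⟨T, hTle, hTp, hTc⟩ := H36.exists_full_pSubgroup r C[x]
  exact hTc ▸ card_le_of_le (fun w hw => S.mem_rPart_ab hx (hTle hw) (isPEl_of_mem hTp hw))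

theorem conj_mem_rPart (S : Sizes G m n) {x w u : G} {r : ℕ} [Fact r.Prime]
    (hx : (C[x]).index = m) (hu : u ∈ normalizer ((C[x] : Subgroup G) : Set G))
    (hw : w ∈ rPart x r) : u * w * u⁻¹ ∈ rPart x r :=
  S.mem_rPart_ab hx ((mem_normalizer_iff.mp hu w).mp (rPart_le_cent x hw))
    (H36.isPEl_conj (isPEl_of_mem (isPGroup_rPart x) hw) u)

/-- An element moving a noncentral element of an abelian centraliser inside it normalises it. -/
theorem mem_normalizer_of_conj (S : Sizes G m n) {x a u : G} (hx : (C[x]).index = m)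
    (ha : a ∈ C[x]) (haZ : a ∉ center G) (hua : C[u * a * u⁻¹] = C[x]) :
    u ∈ normalizer ((C[x] : Subgroup G) : Set G) := by
  refine mem_normalizer_iff.mpr fun w => ?_
  conv_rhs => rw [← hua, mem_cent_conj, (S.cent_eq hx ha haZ).2]
  simp [mul_assoc]

theorem not_center_rPart (S : Sizes G m n) {x : G} {r : ℕ} [Fact r.Prime]
    (hx : (C[x]).index = m) (hrm : r ∣ m) : ¬ rPart x r ≤ center G := fun hle => by
  obtain ⟨w, hwx, hw, hwZ⟩ := S.exists_pEl_of_dvd_m (r := r) hrm x
  exact hwZ (hle (S.mem_rPart_ab hx hwx hw))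

theorem not_center_qPart (S : Sizes G m n) {x : G} {q : ℕ} [Fact q.Prime]
    (hx : (C[x]).index = m) (hqn : q ∣ n) : ¬ rPart x q ≤ center G := fun hle => by
  obtain ⟨z, hz, hzm, hzx⟩ := S.exists_qEl_cent hqn hx
  exact S.not_center_of_m hzm (hle (S.mem_rPart_ab hx (hzx ▸ mem_cent.mpr rfl) hz))

theorem fixed_points (S : Sizes G m n) {x w u : G} {r : ℕ} [Fact r.Prime]
    (hx : (C[x]).index = m) (hu : u ∉ C[x]) (hw : w ∈ rPart x r) (hc : Commute u w) :
    w ∈ center G := by
  by_contra hwZ
  exact hu ((S.cent_eq hx (rPart_le_cent x hw) hwZ).2 ▸ mem_cent_comm.mpr hc.symm)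

theorem card_qPart_map (S : Sizes G m n) {x : G} {q : ℕ} [hq : Fact q.Prime]
    (hx : (C[x]).index = m) (hqn : q ∣ n) :
    Nat.card ((rPart x q).map (QuotientGroup.mk' (center G))) = q ^ n.factorization q := by
  obtain ⟨y, hy⟩ := S.ex_mn
  set W := rPart x q
  set B := W.map (QuotientGroup.mk' (center G))
  obtain ⟨j, hj⟩ := IsPGroup.iff_card.mp ((isPGroup_rPart (r := q) x).map
    (QuotientGroup.mk' (center G)))
  have hB : Nat.card B = (center G).relIndex W := by
    rw [← relIndex_bot_left, ← map_bot (QuotientGroup.mk' (center G)), relIndex_map_map,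
      bot_sup_eq, QuotientGroup.ker_mk', relIndex_sup_right]
  have hsup : W ⊔ center G ≤ C[x] := sup_le (rPart_le_cent x) (center_le_centralizer _)
  have hsplit : (center G).relIndex W * (W ⊔ center G).relIndex C[x] =
      (center G).relIndex C[x] := by
    rw [← relIndex_sup_right W (center G), relIndex_mul_relIndex _ _ _ le_sup_right hsup]
  have hnd : ¬ q ∣ (W ⊔ center G).relIndex C[x] := fun hd => by
    have h1 : q ∣ W.relIndex C[x] := hd.trans (relIndex_dvd_of_le_left _ le_sup_left)
    have h2 : (Nat.card W).factorization q + (W.relIndex C[x]).factorization q =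
        (Nat.card C[x]).factorization q := factorization_card_eq (rPart_le_cent x) q
    rw [show Nat.card W = _ from S.card_rPart hx, hq.out.factorization_pow, Finsupp.single_eq_same] at h2
    have h3 : 1 ≤ (W.relIndex C[x]).factorization q :=
      hq.out.factorization_pos_of_dvd (relIndex_ne_zero' _ _)
        h1
    omega
  have h4 := congrArg (fun k => k.factorization q) hsplit
  rw [Nat.factorization_mul (relIndex_ne_zero' _ _) (relIndex_ne_zero' _ _),
    Finsupp.add_apply, Nat.factorization_eq_zero_of_not_dvd hnd, add_zero, S.relIndex_m hx hy,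
    Nat.factorization_mul (relIndex_ne_zero' _ _)
      (by have := S.one_lt_n; omega), Finsupp.add_apply,
    Nat.factorization_eq_zero_of_not_dvd (S.not_dvd_relIndex_mn hqn hy), zero_add, ← hB, show Nat.card B = q ^ j from hj,
    hq.out.factorization_pow, Finsupp.single_eq_same] at h4
  rw [show Nat.card B = q ^ j from hj, h4]

/-- If a prime `r ∣ m` divides `|N(C) : C|` then it divides `n - 1`. -/
theorem dvd_sub_one (S : Sizes G m n) {x : G} {r : ℕ} [hr : Fact r.Prime] (hx : (C[x]).index = m)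
    (hrm : r ∣ m) (hre : r ∣ (C[x]).relIndex (normalizer ((C[x] : Subgroup G) : Set G))) :
    r ∣ n - 1 := by
  classical
  set N := normalizer ((C[x] : Subgroup G) : Set G)
  obtain ⟨u, hu, huN, huC⟩ : ∃ u, IsPEl r u ∧ u ∈ N ∧ u ∉ C[x] := by
    by_contra hall
    push Not at hall
    obtain ⟨P⟩ : Nonempty (Sylow r N) := inferInstance
    refine (not_dvd_index_iff.mpr ⟨P, fun v hv => mem_subgroupOf.mpr ?_⟩) hre
    refine hall v ?_ v.2
    obtain ⟨i, hi⟩ := isPEl_of_mem P.isPGroup' hv
    exact ⟨i, by rw [Subgroup.orderOf_coe, hi]⟩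
  have hone : (n : ZMod r) = 1 := by
    rw [← Nat.prod_factorization_pow_eq_self (n := n) (by have := S.one_lt_n; omega)]
    rw [Finsupp.prod, Nat.cast_prod]
    refine Finset.prod_eq_one fun q hq => ?_
    rw [Nat.support_factorization, Nat.mem_primeFactors] at hq
    haveI : Fact q.Prime := ⟨hq.1⟩
    have hrq : r ≠ q := fun h => S.not_dvd_n hr.out hrm (h ▸ hq.2.1)
    have := card_map_modEq_one hrq (isPGroup_rPart (r := q) x) hu
      (fun v hv w hw => S.conj_mem_rPart hx ((zpowers_le.mpr huN) hv) hw)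
      (fun w hw hc => S.fixed_points hx huC hw hc)
    rw [S.card_qPart_map hx hq.2.1, ← ZMod.natCast_eq_natCast_iff, Nat.cast_one] at this
    exact this
  rw [← ZMod.natCast_eq_zero_iff, Nat.cast_sub (by have := S.one_lt_n; omega), hone,
    Nat.cast_one, sub_self]

/-- For `r ∣ m`: `r ^ 2` divides neither `|G : N(C)|` nor `|N(C) : C|`, and `r ∣ |N(C) : C|`. -/
theorem local_index (S : Sizes G m n) {x : G} {r : ℕ} [hr : Fact r.Prime] (hx : (C[x]).index = m)
    (hrm : r ∣ m) :
    (normalizer ((C[x] : Subgroup G) : Set G)).index.factorization r ≤ 1 ∧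
      ((C[x]).relIndex (normalizer ((C[x] : Subgroup G) : Set G))).factorization r = 1 := by
  classical
  set C := C[x]
  set N := normalizer ((C : Subgroup G) : Set G)
  set A := rPart x r with hAdef
  have hrn := S.not_dvd_n hr.out hrm
  have hCN : C ≤ N := le_normalizer
  have hAC : A ≤ C := rPart_le_cent x
  obtain ⟨P, hP⟩ := ((isPGroup_rPart (r := r) x).comap_subtype (K := N)).exists_le_sylow
  set S₀ := (P : Subgroup N).map N.subtype with hS₀
  have hS₀N : S₀ ≤ N := map_subtype_le _
  have hAS : A ≤ S₀ := fun a ha => ⟨⟨a, hCN (hAC ha)⟩, hP (mem_subgroupOf.mpr ha), rfl⟩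
  have hS₀p : IsPGroup r S₀ := P.isPGroup'.map _
  have hS₀c : Nat.card S₀ = r ^ (Nat.card N).factorization r := by
    rw [hS₀, card_map_of_injective N.subtype_injective, P.card_eq_multiplicity]
  obtain ⟨R, hR⟩ := hS₀p.exists_le_sylow
  have hRN : ∀ u ∈ (R : Subgroup G), u ∈ N → u ∈ S₀ := fun u hu huN => by
    have h1 : S₀ = (R : Subgroup G) ⊓ N := eq_of_le_of_card_ge (le_inf hR hS₀N)
      (hS₀c ▸ H36.card_le_of_pSubgroup (R.isPGroup'.to_le inf_le_left) inf_le_right)
    exact h1.symm ▸ ⟨hu, huN⟩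
  have hRC : ∀ u ∈ (R : Subgroup G), u ∈ C → u ∈ A := fun u hu huC =>
    S.mem_rPart_ab hx huC (isPEl_of_mem R.isPGroup' hu)
  have hAn : ∀ u ∈ S₀, ∀ a ∈ A, u * a * u⁻¹ ∈ A := fun u hu a ha =>
    S.conj_mem_rPart hx (hS₀N hu) ha
  have hAZ : ¬ A ≤ center G := S.not_center_rPart hx hrm
  have hcardA : Nat.card A = r ^ (Nat.card C).factorization r := S.card_rPart hx
  obtain ⟨a, haA, haZ, har, hac⟩ := exists_central_mod' hS₀p hAS hAZ hAn
  have hCa : C[a] = C := (S.cent_eq hx (hAC haA) haZ).2
  have hpow : ∀ u ∈ S₀, u ^ r ∈ A := fun u hu => by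
    obtain ⟨c, hc, hcu⟩ := hac u hu
    exact hRC _ (pow_mem (hR hu) r)
      (hCa ▸ mem_cent_comm.mpr (pow_commute_of_comm_mod hc hcu har).symm)
  obtain ⟨q, hqp, hqn⟩ := Nat.exists_prime_and_dvd S.one_lt_n.ne'
  haveI : Fact q.Prime := ⟨hqp⟩
  have hrel : A.relIndex S₀ ∣ r := by
    refine two_ops (fun (h : r = q) => hrn (h ▸ hqn)) hS₀p hAn hpow (isPGroup_rPart (r := q) x)
      (S.not_center_qPart hx hqn) (fun u hu w hw => S.conj_mem_rPart hx (hS₀N hu) hw)
      (fun v hv w hw => mem_cent_comm.mp ((mem_centPow.mp hv).2.1 (rPart_le_cent x hw)))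
      fun u hu huA w hw hc => S.fixed_points hx (fun huC => huA (hRC u (hR hu) huC)) hw hc
  have hfS := factorization_card_eq hAS r
  have hfC := factorization_card_eq hCN r
  rw [hcardA, hS₀c, hr.out.factorization_pow, hr.out.factorization_pow,
    Finsupp.single_eq_same, Finsupp.single_eq_same] at hfS
  have he1 : (C.relIndex N).factorization r ≤ 1 := by
    obtain ⟨j, hj1, hj⟩ := (Nat.dvd_prime_pow hr.out).mp
      (hrel.trans (dvd_of_eq (pow_one r).symm) : A.relIndex S₀ ∣ r ^ 1)
    rw [hj, hr.out.factorization_pow, Finsupp.single_eq_same] at hfS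
    omega
  have hm : (C.relIndex N).factorization r + N.index.factorization r = m.factorization r := by
    rw [← hx, ← relIndex_mul_index hCN, Nat.factorization_mul
      (relIndex_ne_zero' _ _) index_ne_zero_of_finite,
      Finsupp.add_apply]
  have hm1 : 1 ≤ m.factorization r :=
    hr.out.factorization_pos_of_dvd (by have := S.one_lt_m; omega) hrm
  by_cases hRS : (R : Subgroup G) ≤ N
  · have h1 : N.index.factorization r = 0 :=
      Nat.factorization_eq_zero_of_not_dvd (not_dvd_index_iff.mpr ⟨R, hRS⟩)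
    omega
  -- `R` is not contained in `N`
  obtain ⟨u, huR, huN, hunorm⟩ : ∃ u ∈ (R : Subgroup G), u ∉ N ∧
      ∀ v ∈ S₀, u * v * u⁻¹ ∈ S₀ := by
    have hnc : NormalizerCondition (R : Subgroup G) :=
      Group.normalizerCondition_of_isNilpotent (h := R.isPGroup'.isNilpotent)
    have hlt : S₀.subgroupOf (R : Subgroup G) < ⊤ := by
      rw [lt_top_iff_ne_top, ne_eq, subgroupOf_eq_top]
      exact fun h => hRS (h.trans hS₀N)
    obtain ⟨⟨u, hu⟩, hun, huS⟩ := SetLike.exists_of_lt (hnc _ hlt)
    refine ⟨u, hu, fun huN => huS (mem_subgroupOf.mpr (hRN u hu huN)), fun v hv => ?_⟩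
    exact (mem_normalizer_iff.mp hun ⟨v, hR hv⟩).mp hv
  set B := A.map (MulAut.conj u).toMonoidHom
  have hBS : B ≤ S₀ := by
    rintro _ ⟨v, hv, rfl⟩
    exact hunorm v (hAS hv)
  have hinf : ∀ b ∈ B, b ∈ A → b ∈ center G := by
    rintro _ ⟨v, hv, rfl⟩ hb
    by_contra hbZ
    have hvZ : v ∉ center G := fun hc => hbZ (Subgroup.Normal.conj_mem inferInstance _ hc u)
    exact huN (S.mem_normalizer_of_conj hx (hAC hv) hvZ (S.cent_eq hx (hAC hb) hbZ).2)
  have hfe : (C.relIndex N).factorization r = 1 := by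
    by_contra hne
    have hAS' : A = S₀ := eq_of_le_of_card_ge hAS (by
      rw [hcardA, hS₀c]
      exact Nat.pow_le_pow_right hr.out.pos (by omega))
    have h1 : u * a * u⁻¹ ∈ A := hAS' ▸ hunorm a (hAS haA)
    exact haZ (by
      have h2 := hinf _ (mem_map_of_mem _ haA) h1
      have := (Subgroup.Normal.conj_mem inferInstance _ h2 u⁻¹ : _ ∈ center G)
      simpa [mul_assoc] using this)
  refine ⟨?_, hfe⟩
  -- `|A| ≤ r |A ∩ Z|`
  have hA2 : Nat.card A ≤ Nat.card (A ⊓ center G : Subgroup G) * r := by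
    have h1 : Nat.card B = Nat.card A := card_map_of_injective (MulAut.conj u).injective
    have h2 : Nat.card (A ⊓ B : Subgroup G) * A.relIndex B = Nat.card B := by
      rw [← inf_relIndex_right A B, ← relIndex_bot_left,
        relIndex_mul_relIndex _ _ _ bot_le inf_le_right, relIndex_bot_left]
    rw [← h1, ← h2]
    refine Nat.mul_le_mul (card_le_of_le (le_inf inf_le_left fun b hb => hinf b hb.2 hb.1)) ?_
    exact (relIndex_le_of_le_right hBS (fun h0 =>
      index_ne_zero_of_finite (H := A.subgroupOf S₀) h0)).trans (Nat.le_of_dvd hr.out.pos hrel)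
  have hAR : A ≤ (R : Subgroup G) := hAS.trans hR
  -- an element central modulo the centre
  obtain ⟨w, hwR, hwZ, -, hwc⟩ := exists_central_mod' R.isPGroup' (le_refl (R : Subgroup G))
    (fun h => hAZ (hAR.trans h))
    (fun v hv b hb => mul_mem (mul_mem hv hb) (inv_mem hv))
  have hkw : (C[w]).index = m * n := by
    refine (S.cases_of_not_center hwZ).resolve_left fun hkw => hRS ?_
    have hRN' : (R : Subgroup G) ≤ normalizer ((C[w] : Subgroup G) : Set G) := fun v hv => by
      obtain ⟨c, hc, hcv⟩ := hwc v hv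
      exact S.mem_normalizer_of_conj hkw (mem_cent.mpr rfl) hwZ
        (by rw [hcv]; exact H36.cent_mul_central hc)
    obtain ⟨g, hg⟩ := S.exists_conj hx hkw
    have hidx : (normalizer ((C[w] : Subgroup G) : Set G)).index = N.index := by
      rw [← index_map_equiv N (MulAut.conj g), show N = normalizer ((C : Subgroup G) : Set G) from rfl]
      congr 1
      rw [hg]
      exact (map_equiv_normalizer_eq C (MulAut.conj g)).symm
    have h1 : ¬ r ∣ N.index := hidx ▸ not_dvd_index_iff.mpr ⟨R, hRN'⟩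
    have h2 : (R : Subgroup G) = S₀ := (eq_of_le_of_card_ge hR (by
      rw [hS₀c, R.card_eq_multiplicity]
      refine Nat.pow_le_pow_right hr.out.pos ?_
      rw [← N.card_mul_index, Nat.factorization_mul Nat.card_pos.ne' index_ne_zero_of_finite,
        Finsupp.add_apply, Nat.factorization_eq_zero_of_not_dvd h1, add_zero])).symm
    exact h2 ▸ hS₀N
  set Z₁ := A ⊓ center G
  set D := (R : Subgroup G) ⊓ C[w]
  have hZD : Z₁ ≤ D := le_inf (inf_le_left.trans hAR) (inf_le_right.trans (center_le_centralizer _))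
  have hDcard : Nat.card D ≤ Nat.card A := by
    rw [hcardA]
    refine (H36.card_le_of_pSubgroup (q := r) (R.isPGroup'.to_le inf_le_left)
      (inf_le_right : D ≤ C[w])).trans (Nat.pow_le_pow_right hr.out.pos ?_)
    have h1 := S.factorization_cent hrn hwZ
    have h2 : (Nat.card C).factorization r + m.factorization r = (Nat.card G).factorization r :=
      S.factorization_cent hrn (S.not_center_of_m hx)
    omega
  have hrelD : Z₁.relIndex D ≤ r := by
    have h1 : Nat.card Z₁ * Z₁.relIndex D = Nat.card D := by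
      rw [← relIndex_bot_left, relIndex_mul_relIndex _ _ _ bot_le hZD, relIndex_bot_left]
    exact Nat.le_of_mul_le_mul_left (h1 ▸ hDcard.trans hA2) Nat.card_pos
  have hcomm : ∀ t ∈ (R : Subgroup G), t * a * t⁻¹ * a⁻¹ ∈ D := by
    intro t ht
    refine ⟨(R : Subgroup G).mul_mem ((R : Subgroup G).mul_mem ((R : Subgroup G).mul_mem ht (hAR haA))
      ((R : Subgroup G).inv_mem ht)) ((R : Subgroup G).inv_mem (hAR haA)), ?_⟩
    obtain ⟨c, hc, hct⟩ := hwc t ht
    obtain ⟨d, hd, hdt⟩ := hwc a (hAR haA)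
    have hinv : ∀ (v e : G), e ∈ center G → v * w * v⁻¹ = w * e → v⁻¹ * w * v = w * e⁻¹ := by
      intro v e he h
      have := congrArg (fun k => v⁻¹ * k * v * e⁻¹) h
      simp only [mul_assoc, inv_mul_cancel_left, inv_mul_cancel, mul_one,
        ← mem_center_iff.mp he v, mul_inv_cancel] at this
      simpa [mul_assoc] using this.symm
    have hmul : ∀ (v k e f : G), e ∈ center G → f ∈ center G → v * w * v⁻¹ = w * e →
        k * w * k⁻¹ = w * f → (v * k) * w * (v * k)⁻¹ = w * (e * f) := by
      intro v k e f _ hf hv hk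
      calc v * k * w * (v * k)⁻¹ = v * (k * w * k⁻¹) * v⁻¹ := by group
        _ = v * w * v⁻¹ * (v * f * v⁻¹) := by rw [hk]; group
        _ = _ := by rw [hv, mem_center_iff.mp hf v, mul_inv_cancel_right, mul_assoc]
    have h5 : (t * a * t⁻¹ * a⁻¹) * w * (t * a * t⁻¹ * a⁻¹)⁻¹ = w * (c * d * c⁻¹ * d⁻¹) :=
      hmul _ _ _ _ ((center G).mul_mem ((center G).mul_mem hc hd) ((center G).inv_mem hc))
        ((center G).inv_mem hd)
        (hmul _ _ _ _ ((center G).mul_mem hc hd) ((center G).inv_mem hc) (hmul _ _ _ _ hc hd hct hdt)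
          (by rw [inv_inv]; exact hinv t c hc hct))
        (by rw [inv_inv]; exact hinv a d hd hdt)
    rw [mem_center_iff.mp hd c, mul_inv_cancel_right, mul_inv_cancel, mul_one,
      mul_inv_eq_iff_eq_mul] at h5
    exact mem_cent.mpr h5
  have hrelR : S₀.relIndex (R : Subgroup G) ≤ Z₁.relIndex D := by
    refine Nat.card_le_card_of_injective
      (α := (R : Subgroup G) ⧸ S₀.subgroupOf (R : Subgroup G))
      (β := D ⧸ Z₁.subgroupOf D)
      (fun T => QuotientGroup.mk ⟨(T.out : G) * a * (T.out : G)⁻¹ * a⁻¹, hcomm _ T.out.2⟩) ?_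
    intro T T' h
    have h1 := QuotientGroup.eq.mp h
    rw [mem_subgroupOf] at h1
    have h2 : C[(T'.out : G) * a * (T'.out : G)⁻¹] = C[(T.out : G) * a * (T.out : G)⁻¹] := by
      have h3 := h1.2
      simp only [Subgroup.coe_mul, Subgroup.coe_inv, mul_inv_rev, inv_inv] at h3
      have h4 := (Subgroup.Normal.conj_mem inferInstance _ h3 a⁻¹ : _ ∈ center G)
      have h5 := H36.cent_mul_central (z := (T.out : G) * a * (T.out : G)⁻¹) h4
      rw [← h5]
      congr 2
      group
    rw [← QuotientGroup.out_eq' T, ← QuotientGroup.out_eq' T']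
    refine (QuotientGroup.eq.mpr (mem_subgroupOf.mpr ?_)).symm
    refine hRN _ ((T'.out⁻¹ * T.out : (R : Subgroup G)).2)
      (S.mem_normalizer_of_conj hx (hAC haA) haZ ?_)
    show _ = C
    rw [← hCa]
    simp only [Subgroup.coe_mul, Subgroup.coe_inv]
    ext v
    rw [show (T'.out : G)⁻¹ * (T.out : G) * a * ((T'.out : G)⁻¹ * (T.out : G))⁻¹ =
      (T'.out : G)⁻¹ * ((T.out : G) * a * (T.out : G)⁻¹) * ((T'.out : G)⁻¹)⁻¹ by group,
      mem_cent_conj, ← h2, mem_cent_conj]
    simp [mul_assoc]
  have hR1 := factorization_card_eq hR r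
  rw [R.card_eq_multiplicity, hS₀c, hr.out.factorization_pow, hr.out.factorization_pow,
    Finsupp.single_eq_same, Finsupp.single_eq_same] at hR1
  rw [← N.card_mul_index, Nat.factorization_mul Nat.card_pos.ne' index_ne_zero_of_finite,
    Finsupp.add_apply, add_left_cancel_iff] at hR1
  rw [← hR1]
  have h9 : r ^ (S₀.relIndex (R : Subgroup G)).factorization r ≤ r ^ 1 := by
    rw [pow_one]
    exact (Nat.le_of_dvd (Nat.pos_of_ne_zero fun h0 =>
      index_ne_zero_of_finite (H := S₀.subgroupOf (R : Subgroup G)) h0)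
      (Nat.ordProj_dvd _ _)).trans (hrelR.trans hrelD)
  exact (Nat.pow_le_pow_iff_right hr.out.one_lt).mp h9

/-- The centraliser of an element of class size `m` is normal. -/
theorem cent_normal (S : Sizes G m n) {x : G} (hx : (C[x]).index = m) : (C[x]).Normal := by
  set N := normalizer ((C[x] : Subgroup G) : Set G)
  rw [← normalizer_eq_top_iff, ← index_eq_one]
  have hkm : N.index ∣ m := hx ▸ index_dvd_of_le le_normalizer
  have hpos : 0 < N.index := Nat.pos_of_ne_zero index_ne_zero_of_finite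
  have hn1 : n - 1 ≠ 0 := by have := S.one_lt_n; omega
  have hdvd : N.index ∣ n - 1 := by
    rw [← Nat.factorization_prime_le_iff_dvd hpos.ne' hn1]
    intro p hp
    by_cases hpk : p ∣ N.index
    · haveI : Fact p.Prime := ⟨hp⟩
      obtain ⟨h1, h2⟩ := S.local_index hx (hpk.trans hkm)
      have h3 : p ∣ (C[x]).relIndex N := Nat.dvd_of_factorization_pos (by rw [h2]; omega)
      exact h1.trans (hp.factorization_pos_of_dvd hn1 (S.dvd_sub_one hx (hpk.trans hkm) h3))
    · rw [Nat.factorization_eq_zero_of_not_dvd hpk]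
      exact Nat.zero_le _
  have hlt : N.index < n := by
    have := Nat.le_of_dvd (Nat.pos_of_ne_zero hn1) hdvd
    omega
  exact (S.index_normalizer_modEq hx).eq_of_lt_of_lt hlt S.one_lt_n

end Sizes

end H27.CMN
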