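import Mathlib.GroupTheory.Sylow
import Mathlib.Tactic.Group
import Cfsg.Agent.H27.RegularClasses
import Cfsg.Agent.H27.SylowLift
import Cfsg.Agent.H36.TwoClassSizes

/-! General tools for groups with class sizes `1, m, m * n`, `(m, n) = 1`. -/

set_option autoImplicit false
set_option linter.style.haveILetI false

namespace H27.CMN

open Subgroup
open H36 (IsPEl isPEl_of_mem)

local notation "C[" x "]" => Subgroup.centralizer (Singleton.singleton x : Set _)

variable {G : Type*} [Group G] [Finite G]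

omit [Finite G] in
/-- The centraliser of a product of commuting elements of coprime orders. -/
theorem cent_mul_eq {x y : G} (hxy : Commute x y) (h : (orderOf x).Coprime (orderOf y)) :
    C[x * y] = C[x] ⊓ C[y] :=
  le_antisymm (le_inf (cent_mul_le_left hxy h) (cent_mul_le_right hxy h)) fun _ hg =>
    mem_cent_comm.mpr ((mem_cent_comm.mp hg.1).mul_left (mem_cent_comm.mp hg.2))

theorem cent_mul_center {c : G} (hc : c ∈ center G) (x : G) : C[x * c] = C[x] :=
  H36.cent_mul_central hc

omit [Finite G] in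
theorem cent_subgroupOf (H : Subgroup G) (x : H) :
    C[x] = (C[(x : G)]).subgroupOf H := by
  ext v
  rw [mem_subgroupOf, mem_cent, mem_cent, Subtype.ext_iff]
  rfl

omit [Finite G] in
theorem index_cent_subgroup (H : Subgroup G) (x : H) :
    (C[x]).index = (C[(x : G)]).relIndex H := by
  rw [cent_subgroupOf]; rfl

omit [Finite G] in
theorem pEl_coprime {q N : ℕ} [Fact q.Prime] {g : G} (hg : IsPEl q g) (h : N.Coprime q) :
    (orderOf g).Coprime N := by
  obtain ⟨i, hi⟩ := hg
  rw [hi]
  exact h.symm.pow_left i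

omit [Finite G] in
theorem relIndex_center_mul (x : G) :
    (center G).relIndex C[x] * (C[x]).index = (center G).index :=
  relIndex_mul_index (center_le_centralizer _)

/-- A subgroup containing the centre has an `r`-element outside the centre iff `r` divides the
index of the centre in it. -/
theorem exists_pEl_not_center_iff {r : ℕ} [hr : Fact r.Prime] (H : Subgroup G) :
    (∃ u ∈ H, IsPEl r u ∧ u ∉ center G) ↔ r ∣ (center G).relIndex H := by
  set N := (center G).subgroupOf H
  have hcard : Nat.card (H ⧸ N) = (center G).relIndex H := rfl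
  constructor
  · rintro ⟨u, hu, ⟨k, hk⟩, huZ⟩
    have hd : orderOf (QuotientGroup.mk' N ⟨u, hu⟩) ∣ r ^ k :=
      (orderOf_map_dvd _ _).trans (by rw [Subgroup.orderOf_mk, hk])
    obtain ⟨j, -, hj⟩ := (Nat.dvd_prime_pow hr.out).mp hd
    rcases Nat.eq_zero_or_pos j with rfl | hjpos
    · exfalso
      rw [pow_zero, orderOf_eq_one_iff] at hj
      exact huZ (mem_subgroupOf.mp ((QuotientGroup.eq_one_iff _).mp hj) :)
    · rw [← hcard]
      exact (dvd_pow_self r hjpos.ne').trans (hj ▸ orderOf_dvd_natCard _)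
  · intro hd
    rw [← hcard] at hd
    obtain ⟨a, ha⟩ := exists_prime_orderOf_dvd_card' r hd
    obtain ⟨x, hx, j, hj⟩ := exists_lift_pElement (p := r) N (a := a) (k := 1) (by rwa [pow_one])
    refine ⟨x, x.2, ⟨j, by rw [Subgroup.orderOf_coe, hj]⟩, fun hxc => ?_⟩
    have h1 : a = 1 := hx ▸ (QuotientGroup.eq_one_iff x).mpr (mem_subgroupOf.mpr hxc)
    rw [h1, orderOf_one] at ha
    exact hr.out.one_lt.ne ha

/-- An element whose prime power parts lie in a subgroup lies in it. -/
theorem mem_of_primary (K : Subgroup G) (g : G)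
    (h : ∀ (p : ℕ) [Fact p.Prime] (i : ℕ), IsPEl p (g ^ i) → g ^ i ∈ K) : g ∈ K := by
  by_contra hg
  obtain ⟨p, hp, i, h1, h2⟩ := H36.exists_primary_not_mem K hg
  exact h2 (@h p hp i h1)

/-- A group in which every `p`-regular prime power element is central has a normal Sylow. -/
theorem sylow_normal_of_regular_central {p : ℕ} [hp : Fact p.Prime]
    (h : ∀ (q : ℕ) [Fact q.Prime] (v : G), q ≠ p → IsPEl q v → v ∈ center G) (P : Sylow p G) :
    (P : Subgroup G).Normal := by
  rw [← normalizer_eq_top_iff, ← index_eq_one, Nat.eq_one_iff_not_exists_prime_dvd]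
  intro q hq hd
  haveI : Fact q.Prime := ⟨hq⟩
  rcases eq_or_ne q p with rfl | hne
  · exact P.not_dvd_index (hd.trans (index_dvd_of_le le_normalizer))
  · obtain ⟨R⟩ : Nonempty (Sylow q G) := inferInstance
    refine (not_dvd_index_iff.mpr ⟨R, fun a ha => ?_⟩) hd
    exact centralizer_le_normalizer _
      (center_le_centralizer _ (h q a hne (isPEl_of_mem R.isPGroup' ha)))

/-- In such a group two `p`-elements generate a `p`-group. -/
theorem mem_sylow_of_regular_central {p : ℕ} [hp : Fact p.Prime]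
    (h : ∀ (q : ℕ) [Fact q.Prime] (v : G), q ≠ p → IsPEl q v → v ∈ center G) (P : Sylow p G)
    {v : G} (hv : IsPEl p v) : v ∈ (P : Subgroup G) := by
  obtain ⟨Q, hQ⟩ := (H36.isPGroup_zpowers_of_isPEl hv).exists_le_sylow
  haveI := Sylow.unique_of_normal P (sylow_normal_of_regular_central h P)
  exact Subsingleton.elim Q P ▸ hQ (mem_zpowers v)

/-- If `p` divides neither the class size of a `p`-regular element nor that of a `p`-element,
then `p`-elements are central. -/
theorem pEl_central {p : ℕ} [hp : Fact p.Prime]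
    (h1 : ∀ v : G, (orderOf v).Coprime p → ¬ p ∣ (C[v]).index)
    (h2 : ∀ v : G, IsPEl p v → ¬ p ∣ (C[v]).index) {w : G} (hw : IsPEl p w) : w ∈ center G := by
  obtain ⟨P, hP⟩ := exists_sylow_le_of_not_dvd_index (h2 w hw)
  have htop := sylow_normal_of_pRegular h1 P
  have hwC : w ∈ centralizer ((P : Subgroup G) : Set G) := le_cent_iff.mp hP
  have hwP : w ∈ (P : Subgroup G) := mem_sylow_of_centralizes P hw hwC
  rw [← cent_eq_top_iff, ← top_le_iff, ← htop]
  exact sup_le hP (centralizer_le (Set.singleton_subset_iff.mpr hwP))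

/-- A nontrivial normal subgroup of a `p`-group, modulo the centre, contains a central element. -/
theorem exists_central_mod {r : ℕ} [hr : Fact r.Prime] {R A : Subgroup G} (hR : IsPGroup r R)
    (hAR : A ≤ R) (hA : ¬ A ≤ center G) (hn : ∀ u ∈ R, ∀ a ∈ A, u * a * u⁻¹ ∈ A) :
    ∃ a ∈ A, a ∉ center G ∧ ∀ u ∈ R, ∃ c ∈ center G, u * a * u⁻¹ = a * c := by
  classical
  set B := A.map (QuotientGroup.mk' (center G))
  let act : MulAction R B :=
    { smul := fun u b => ⟨QuotientGroup.mk' (center G) u * b * (QuotientGroup.mk' (center G) u)⁻¹,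
        by
          obtain ⟨a, ha, hab⟩ := b.2
          exact ⟨_, hn u u.2 a ha, by rw [map_mul, map_mul, map_inv, hab]⟩⟩
      one_smul := fun b => Subtype.ext (by
        show QuotientGroup.mk' (center G) ((1 : R) : G) * b * _ = (b : G ⧸ center G)
        simp)
      mul_smul := fun u v b => Subtype.ext (by
        show QuotientGroup.mk' (center G) ((u * v : R) : G) * b *
            (QuotientGroup.mk' (center G) ((u * v : R) : G))⁻¹ = _ * (_ * b * _) * _
        rw [Subgroup.coe_mul, map_mul]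
        group) }
  have hBp : IsPGroup r B := (hR.to_le hAR).map _
  have hBne : Nontrivial B := by
    rw [nontrivial_iff_ne_bot, ne_eq, Subgroup.map_eq_bot_iff, QuotientGroup.ker_mk']
    exact hA
  have hdvd : r ∣ Nat.card B := by
    obtain ⟨k, hk0, hk⟩ := hBp.nontrivial_iff_card.mp hBne
    exact hk ▸ dvd_pow_self r hk0.ne'
  obtain ⟨b, hb, hb1⟩ := hR.exists_fixed_point_of_prime_dvd_card_of_fixed_point (α := B) hdvd
    (a := 1) (fun u => Subtype.ext (by
      show QuotientGroup.mk' (center G) (u : G) * ((1 : B) : G ⧸ center G) * _ = _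
      simp))
  obtain ⟨a, ha, hab⟩ := b.2
  refine ⟨a, ha, fun haZ => hb1 (Subtype.ext ?_).symm, fun u hu => ⟨a⁻¹ * (u * a * u⁻¹), ?_, ?_⟩⟩
  · rw [← hab]
    exact (QuotientGroup.eq_one_iff a).mpr haZ
  · have h3 : QuotientGroup.mk' (center G) u * b * (QuotientGroup.mk' (center G) u)⁻¹ =
        (b : G ⧸ center G) := congrArg Subtype.val (hb ⟨u, hu⟩)
    rw [← hab, ← map_inv, ← map_mul, ← map_mul] at h3
    exact QuotientGroup.eq.mp h3.symm
  · group

omit [Finite G] in
theorem conj_pow_of_comm_mod {u w c : G} (hc : c ∈ center G) (h : u * w * u⁻¹ = w * c) (i : ℕ) :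
    u ^ i * w * (u ^ i)⁻¹ = w * c ^ i := by
  induction i with
  | zero => simp
  | succ i ih =>
    rw [pow_succ' u, pow_succ c]
    calc u * u ^ i * w * (u * u ^ i)⁻¹ = u * (u ^ i * w * (u ^ i)⁻¹) * u⁻¹ := by group
      _ = u * w * u⁻¹ * (u * c ^ i * u⁻¹) := by rw [ih]; group
      _ = w * c * c ^ i := by
        rw [h, mem_center_iff.mp (pow_mem hc i) u, mul_inv_cancel_right]
      _ = _ := by rw [mul_assoc, ← pow_succ', pow_succ]

omit [Finite G] in
/-- Commuting modulo the centre and coprimality give commuting. -/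
theorem commute_of_comm_mod {u w c : G} {r N : ℕ} (hc : c ∈ center G) (h : u * w * u⁻¹ = w * c)
    (hu : Commute (u ^ r) w) (hw : w ^ N = 1) (hcop : r.Coprime N) : Commute u w := by
  have h1 : c ^ r = 1 := by
    have := conj_pow_of_comm_mod hc h r
    rw [hu.eq, mul_inv_cancel_right] at this
    exact mul_eq_left.mp this.symm
  have h2 : c ^ N = 1 := by
    have h3 : (u * w * u⁻¹) ^ N = (w * c) ^ N := by rw [h]
    rw [conj_pow, hw, mul_one, mul_inv_cancel, (show Commute w c from mem_center_iff.mp hc w).mul_pow, hw, one_mul] at h3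
    exact h3.symm
  have h4 : c = 1 := orderOf_eq_one_iff.mp
    (Nat.eq_one_of_dvd_coprimes hcop (orderOf_dvd_of_pow_eq_one h1) (orderOf_dvd_of_pow_eq_one h2))
  rw [h4, mul_one] at h
  exact mul_inv_eq_iff_eq_mul.mp h

omit [Finite G] in
theorem pow_commute_of_comm_mod {u w c : G} {r : ℕ} (hc : c ∈ center G)
    (h : u * w * u⁻¹ = w * c) (hw : w ^ r ∈ center G) : Commute (u ^ r) w := by
  have h1 : (u * w * u⁻¹) ^ r = (w * c) ^ r := by rw [h]
  rw [conj_pow, mem_center_iff.mp hw u, mul_inv_cancel_right,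
    (show Commute w c from mem_center_iff.mp hc w).mul_pow] at h1
  have h2 := conj_pow_of_comm_mod hc h r
  rw [mul_eq_left.mp h1.symm, mul_one] at h2
  exact mul_inv_eq_iff_eq_mul.mp h2

/-- A central element modulo the centre can be taken of order `r` modulo the centre. -/
theorem exists_central_mod' {r : ℕ} [hr : Fact r.Prime] {R A : Subgroup G} (hR : IsPGroup r R)
    (hAR : A ≤ R) (hA : ¬ A ≤ center G) (hn : ∀ u ∈ R, ∀ a ∈ A, u * a * u⁻¹ ∈ A) :
    ∃ a ∈ A, a ∉ center G ∧ a ^ r ∈ center G ∧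
      ∀ u ∈ R, ∃ c ∈ center G, u * a * u⁻¹ = a * c := by
  classical
  obtain ⟨a, ha, haZ, hc⟩ := exists_central_mod hR hAR hA hn
  obtain ⟨k, hk⟩ := isPEl_of_mem (hR.to_le hAR) ha
  have hex : ∃ i, a ^ r ^ i ∈ center G := ⟨k, by rw [← hk, pow_orderOf_eq_one]; exact one_mem _⟩
  have hpos : Nat.find hex ≠ 0 := fun h => haZ (by simpa [h] using Nat.find_spec hex)
  obtain ⟨i, hi⟩ := Nat.exists_eq_succ_of_ne_zero hpos
  refine ⟨a ^ r ^ i, A.pow_mem ha _, Nat.find_min hex (by omega), ?_, fun u hu => ?_⟩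
  · rw [← pow_mul, ← pow_succ]
    have := Nat.find_spec hex
    rwa [hi] at this
  · obtain ⟨c, hcZ, hcu⟩ := hc u hu
    refine ⟨c ^ r ^ i, pow_mem hcZ _, ?_⟩
    rw [← conj_pow, hcu, (show Commute a c from mem_center_iff.mp hcZ a).mul_pow]

/-- An `r`-subgroup normalised by a Sylow `r`-subgroup lies in it. -/
theorem le_sylow_of_normalised {r : ℕ} [Fact r.Prime] (R : Sylow r G) {N : Subgroup G}
    (hN : IsPGroup r N) (hn : ∀ u ∈ (R : Subgroup G), ∀ a ∈ N, u * a * u⁻¹ ∈ N) :
    N ≤ (R : Subgroup G) := by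
  have hRN : (R : Subgroup G) ≤ normalizer (N : Set G) := fun u hu => mem_normalizer_iff.mpr
    fun a => ⟨hn u hu a, fun h => by
      have := hn u⁻¹ ((R : Subgroup G).inv_mem hu) _ h
      simpa [mul_assoc] using this⟩
  have h1 : IsPGroup r ((R : Subgroup G) ⊔ N : Subgroup G) :=
    R.isPGroup'.to_sup_of_normal_right' hN hRN
  exact le_sup_right.trans (R.is_maximal' h1 le_sup_left).le

/-- An `r`-element is conjugate into an `r`-subgroup of full order. -/
theorem exists_conj_mem_full {r : ℕ} [hr : Fact r.Prime] {D A : Subgroup G}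
    (hA : IsPGroup r A) (hAD : A ≤ D) (hcard : r ^ (Nat.card D).factorization r ≤ Nat.card A)
    {g : G} (hg : IsPEl r g) (hgD : g ∈ D) : ∃ x ∈ D, x⁻¹ * g * x ∈ A := by
  let P : Sylow r D := Sylow.ofCard (A.subgroupOf D) (by
    rw [Nat.card_congr (subgroupOfEquivOfLe hAD).toEquiv]
    exact le_antisymm (H36.card_le_of_pSubgroup hA hAD) hcard)
  have hg' : IsPEl r (⟨g, hgD⟩ : D) := by
    obtain ⟨k, hk⟩ := hg
    exact ⟨k, by rw [Subgroup.orderOf_mk, hk]⟩
  obtain ⟨Q, hQ⟩ := (H36.isPGroup_zpowers_of_isPEl hg').exists_le_sylow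
  obtain ⟨x, rfl⟩ := MulAction.exists_smul_eq D P Q
  have h1 := hQ (mem_zpowers _)
  rw [Sylow.coe_subgroup_smul] at h1
  obtain ⟨a, ha, hab⟩ := h1
  refine ⟨x, x.2, ?_⟩
  have h2 : (x : G) * a * (x : G)⁻¹ = g := congrArg Subtype.val hab
  rw [← h2]
  have h3 : (a : G) ∈ A := mem_subgroupOf.mp ha
  simpa [mul_assoc] using h3

/-- An `r`-group `R` acting on an `s`-group `W`, with fixed points outside `A` only central. -/
theorem two_ops {r s : ℕ} [hr : Fact r.Prime] [hs : Fact s.Prime] (hrs : r ≠ s)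
    {R A W : Subgroup G} (hR : IsPGroup r R)
    (hAn : ∀ u ∈ R, ∀ a ∈ A, u * a * u⁻¹ ∈ A) (hpow : ∀ u ∈ R, u ^ r ∈ A)
    (hW : IsPGroup s W) (hWZ : ¬ W ≤ center G)
    (hnorm : ∀ u ∈ R, ∀ w ∈ W, u * w * u⁻¹ ∈ W)
    (hfixA : ∀ a ∈ A, ∀ w ∈ W, Commute a w)
    (hfix : ∀ u ∈ R, u ∉ A → ∀ w ∈ W, Commute u w → w ∈ center G) :
    A.relIndex R ∣ r := by
  classical
  set B := W.map (QuotientGroup.mk' (center G))
  have hBp : IsPGroup s B := hW.map _
  haveI hBne : Nontrivial B := by
    rw [nontrivial_iff_ne_bot, ne_eq, Subgroup.map_eq_bot_iff, QuotientGroup.ker_mk']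
    exact hWZ
  haveI : Nontrivial (center B) := hBp.center_nontrivial
  -- the action of `R` on the centre of `B`
  let cj : R → center B → center B := fun u v =>
    ⟨⟨QuotientGroup.mk' (center G) u * (v : B) * (QuotientGroup.mk' (center G) u)⁻¹, by
      obtain ⟨w, hw, hwv⟩ := (v : B).2
      exact ⟨_, hnorm u u.2 w hw, by rw [map_mul, map_mul, map_inv, hwv]⟩⟩, by
      rw [mem_center_iff]
      rintro ⟨b, hb⟩
      obtain ⟨w, hw, rfl⟩ := hb
      have hw' : QuotientGroup.mk' (center G) ((u : G)⁻¹ * w * ((u : G)⁻¹)⁻¹) ∈ B :=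
        ⟨_, hnorm _ (R.inv_mem u.2) w hw, rfl⟩
      have hc := congrArg Subtype.val (mem_center_iff.mp v.2 ⟨_, hw'⟩)
      simp only [Subgroup.coe_mul, map_mul, map_inv, inv_inv] at hc
      apply Subtype.ext
      simp only [Subgroup.coe_mul]
      have := congrArg (fun t => QuotientGroup.mk' (center G) (u : G) * t *
        (QuotientGroup.mk' (center G) (u : G))⁻¹) hc
      simpa [mul_assoc] using this⟩
  have hcj_mul : ∀ u v : R, ∀ x, cj (u * v) x = cj u (cj v x) := fun u v x => by
    apply Subtype.ext; apply Subtype.ext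
    show QuotientGroup.mk' (center G) ((u * v : R) : G) * _ * _ = _ * (_ * _ * _) * _
    rw [Subgroup.coe_mul, map_mul]
    group
  have hcj_one : ∀ x, cj 1 x = x := fun x => by
    apply Subtype.ext; apply Subtype.ext
    show QuotientGroup.mk' (center G) ((1 : R) : G) * _ * _ = _
    simp
  let φ : R →* MulAut (center B) :=
    { toFun := fun u =>
        { toFun := cj u
          invFun := cj u⁻¹
          left_inv := fun x => by rw [← hcj_mul, inv_mul_cancel, hcj_one]
          right_inv := fun x => by rw [← hcj_mul, mul_inv_cancel, hcj_one]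
          map_mul' := fun x y => by
            apply Subtype.ext; apply Subtype.ext
            show _ * (((x : B) : G ⧸ center G) * _) * _ = (_ * _ * _) * (_ * _ * _)
            group }
      map_one' := MulEquiv.ext hcj_one
      map_mul' := fun u v => MulEquiv.ext (hcj_mul u v) }
  have hAker : ∀ u : R, (u : G) ∈ A → φ u = 1 := fun u hu => MulEquiv.ext fun x => by
    obtain ⟨w, hw, hwv⟩ := (x : B).2
    apply Subtype.ext; apply Subtype.ext
    show QuotientGroup.mk' (center G) (u : G) * ((x : B) : G ⧸ center G) * _ = _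
    rw [← hwv, ((hfixA u hu w hw).map (QuotientGroup.mk' (center G))).eq, mul_inv_cancel_right]
    exact hwv
  have hfree : ∀ u : R, (u : G) ∉ A → ∀ x, φ u x = x → x ∈ (⊥ : Subgroup (center B)) := by
    intro u hu x hx
    obtain ⟨w, hw, hwv⟩ := (x : B).2
    have h1 : QuotientGroup.mk' (center G) (u : G) * ((x : B) : G ⧸ center G) *
        (QuotientGroup.mk' (center G) (u : G))⁻¹ = ((x : B) : G ⧸ center G) :=
      congrArg Subtype.val (congrArg Subtype.val hx)
    rw [← hwv, ← map_inv, ← map_mul, ← map_mul] at h1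
    obtain ⟨i, hi⟩ := isPEl_of_mem hW hw
    have hcm : Commute (u : G) w := by
      refine commute_of_comm_mod (QuotientGroup.eq.mp h1.symm) (by group)
        (hfixA _ (hpow u u.2) w hw) (hi ▸ pow_orderOf_eq_one w) ?_
      exact ((Nat.coprime_primes hr.out hs.out).mpr hrs).pow_right i
    rw [mem_bot]
    apply Subtype.ext; apply Subtype.ext
    rw [← hwv]
    exact (QuotientGroup.eq_one_iff w).mpr (hfix u u.2 hu w hw hcm)
  set A' := A.subgroupOf R
  haveI hA'n : A'.Normal := ⟨fun a ha u => hAn u u.2 a ha⟩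
  obtain ⟨j, hj⟩ := IsPGroup.iff_card.mp (hR.to_quotient A')
  have hj' : A.relIndex R = r ^ j := hj
  by_contra hnd
  haveI : Nontrivial (R ⧸ A') := by
    rw [← Finite.one_lt_card_iff_nontrivial, hj]
    refine one_lt_pow₀ hr.out.one_lt fun h0 => hnd ?_
    rw [hj', h0, pow_zero]
    exact one_dvd r
  haveI := (hR.to_quotient A').center_nontrivial
  obtain ⟨⟨f', hf'c⟩, hf'⟩ := exists_ne (1 : center (R ⧸ A'))
  obtain ⟨u₂, rfl⟩ := QuotientGroup.mk'_surjective A' f'
  have hu₂ : (u₂ : G) ∉ A := fun h => hf' (Subtype.ext ((QuotientGroup.eq_one_iff u₂).mpr h))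
  obtain ⟨e', he'⟩ : ∃ e' : R ⧸ A', e' ∉ zpowers (QuotientGroup.mk' A' u₂) := by
    by_contra hall
    push Not at hall
    have hle : Nat.card (R ⧸ A') ≤ r := by
      have h1 : zpowers (QuotientGroup.mk' A' u₂) = ⊤ := eq_top_iff.mpr fun y _ => hall y
      rw [← Subgroup.card_top, ← h1, Nat.card_zpowers]
      refine Nat.le_of_dvd hr.out.pos (orderOf_dvd_of_pow_eq_one ?_)
      rw [← map_pow]
      exact (QuotientGroup.eq_one_iff _).mpr (hpow u₂ u₂.2)
    rw [hj] at hle
    refine hnd (hj' ▸ ?_)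
    rcases Nat.lt_or_ge j 2 with h | h
    · interval_cases j <;> simp
    · exact absurd hle (not_le.mpr (lt_of_lt_of_le (by
        rw [pow_two]; exact lt_mul_of_one_lt_left hr.out.pos hr.out.one_lt)
        (Nat.pow_le_pow_right hr.out.pos h)))
  obtain ⟨u₁, rfl⟩ := QuotientGroup.mk'_surjective A' e'
  have hcomm : Commute (φ u₁) (φ u₂) := by
    have h1 : QuotientGroup.mk' A' ((u₂ * u₁)⁻¹ * (u₁ * u₂)) = 1 := by
      rw [map_mul, map_inv, map_mul, map_mul, mem_center_iff.mp hf'c, inv_mul_cancel]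
    have h2 := hAker _ (mem_subgroupOf.mp ((QuotientGroup.eq_one_iff _).mp h1))
    rw [map_mul, map_inv, map_mul, map_mul, inv_mul_eq_one] at h2
    exact h2.symm
  have hpr : ∀ u : R, φ u ^ r = 1 := fun u => by
    rw [← map_pow]; exact hAker _ (hpow u u.2)
  obtain ⟨x, hx⟩ := exists_ne (1 : center B)
  open scoped IsMulCommutative in
  have hxr := H36.pow_mem_of_lines (V := center B) (φ u₁) (φ u₂) hcomm (hpr u₁) (hpr u₂) ⊥
    (fun i w hw => by rw [mem_bot.mp hw, map_one]) (fun v => hfree u₂ hu₂ v)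
    (fun i _ v hv => by
      refine hfree (u₁ * u₂ ^ i) (fun hmem => he' ?_) v (by rwa [map_mul, map_pow])
      have h1 : QuotientGroup.mk' A' u₁ * QuotientGroup.mk' A' u₂ ^ i = 1 := by
        rw [← map_pow, ← map_mul]
        exact (QuotientGroup.eq_one_iff _).mpr (mem_subgroupOf.mpr hmem)
      rw [eq_inv_of_mul_eq_one_left h1]
      exact inv_mem (npow_mem_zpowers _ i)) x
  obtain ⟨i, hi⟩ := IsPGroup.iff_orderOf.mp (hBp.to_subgroup (center B)) x
  apply hx
  rw [← orderOf_eq_one_iff]
  refine Nat.eq_one_of_dvd_coprimes (((Nat.coprime_primes hs.out hr.out).mpr hrs.symm).pow_left i)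
    hi.dvd (orderOf_dvd_of_pow_eq_one (mem_bot.mp hxr))

/-- Semiregular action of an element of order `r` modulo `A` on an `s`-group modulo the centre. -/
theorem card_map_modEq_one {r s : ℕ} [hr : Fact r.Prime] [hs : Fact s.Prime] (hrs : r ≠ s)
    {W : Subgroup G} (hW : IsPGroup s W) {u : G} (hu : IsPEl r u)
    (hnorm : ∀ v ∈ zpowers u, ∀ w ∈ W, v * w * v⁻¹ ∈ W)
    (hfix : ∀ w ∈ W, Commute u w → w ∈ center G) :
    Nat.card (W.map (QuotientGroup.mk' (center G))) ≡ 1 [MOD r] := by
  classical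
  set B := W.map (QuotientGroup.mk' (center G))
  let act : MulAction (zpowers u) B :=
    { smul := fun v b => ⟨QuotientGroup.mk' (center G) v * b * (QuotientGroup.mk' (center G) v)⁻¹,
        by
          obtain ⟨a, ha, hab⟩ := b.2
          exact ⟨_, hnorm v v.2 a ha, by rw [map_mul, map_mul, map_inv, hab]⟩⟩
      one_smul := fun b => Subtype.ext (by
        show QuotientGroup.mk' (center G) ((1 : zpowers u) : G) * b * _ = (b : G ⧸ center G)
        simp)
      mul_smul := fun v w b => Subtype.ext (by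
        show QuotientGroup.mk' (center G) ((v * w : zpowers u) : G) * b *
            (QuotientGroup.mk' (center G) ((v * w : zpowers u) : G))⁻¹ = _ * (_ * b * _) * _
        rw [Subgroup.coe_mul, map_mul]
        group) }
  have hp : IsPGroup r (zpowers u) := H36.isPGroup_zpowers_of_isPEl hu
  have h1 : MulAction.fixedPoints (zpowers u) B = {(1 : B)} := by
    ext b
    refine ⟨fun hb => ?_, fun hb v => ?_⟩
    · obtain ⟨w, hw, hwb⟩ := b.2
      have h2 : QuotientGroup.mk' (center G) u * (b : G ⧸ center G) *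
          (QuotientGroup.mk' (center G) u)⁻¹ = (b : G ⧸ center G) :=
        congrArg Subtype.val (hb ⟨u, mem_zpowers u⟩)
      rw [← hwb, ← map_inv, ← map_mul, ← map_mul] at h2
      obtain ⟨i, hi⟩ := isPEl_of_mem hW hw
      obtain ⟨k, hk⟩ := hu
      have hcm : Commute u w := commute_of_comm_mod (r := r ^ k) (N := orderOf w)
        (QuotientGroup.eq.mp h2.symm) (by group)
        (by rw [← hk, pow_orderOf_eq_one]; exact Commute.one_left w) (pow_orderOf_eq_one w)
        (hi ▸ ((Nat.coprime_primes hr.out hs.out).mpr hrs).pow k i)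
      refine Subtype.ext ?_
      rw [← hwb]
      exact (QuotientGroup.eq_one_iff w).mpr (hfix w hw hcm)
    · rw [Set.mem_singleton_iff.mp hb]
      apply Subtype.ext
      show QuotientGroup.mk' (center G) (v : G) * ((1 : B) : G ⧸ center G) * _ = _
      simp
  have := hp.card_modEq_card_fixedPoints (α := B)
  rw [h1] at this
  simpa using this

end H27.CMN
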