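import Cfsg.Agent.H27.CoprimeSizes.QRegular

/-!
`n = q ^ b` and all centralisers contain noncentral `q`-elements: this case does not occur.
-/

set_option autoImplicit false
set_option linter.style.haveILetI false

namespace H27.CMN

open Subgroup
open H36 (IsPEl isPEl_of_mem)

local notation "C[" x "]" => Subgroup.centralizer (Singleton.singleton x : Set _)

variable {G : Type*} [Group G] [Finite G] {m n q b r : ℕ} [hq : Fact q.Prime] [hr : Fact r.Prime]

/-- The `r`-elements among the central elements of `C[h]`. -/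
noncomputable def rPart (h : G) (r : ℕ) : Subgroup G :=
  centPow h (r ^ (Nat.card G).factorization r)

theorem isPGroup_rPart (h : G) : IsPGroup r (rPart h r) := fun w =>
  ⟨(Nat.card G).factorization r, Subtype.ext (by
    rw [Subgroup.coe_pow, Subgroup.coe_one]; exact (mem_centPow.mp w.2).2.2)⟩

namespace Sizes

theorem coprime_of_pEl (hrq : r ≠ q) {w : G} (hw : IsPEl r w) :
    (orderOf w).Coprime q := by
  obtain ⟨i, hi⟩ := hw
  rw [hi]
  exact ((Nat.coprime_primes hr.out hq.out).mpr hrq).pow_left i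

theorem mem_rPart (S : Sizes G m n) (hnq : n = q ^ b)
    (hB : ∀ g : G, ∃ v ∈ C[g], IsPEl q v ∧ v ∉ center G) (hrq : r ≠ q)
    {h w : G} (hhq : (orderOf h).Coprime q) (hhZ : h ∉ center G) (hw : w ∈ C[h])
    (hwp : IsPEl r w) : w ∈ rPart h r :=
  S.mem_centPow_reg hnq hB hhq hhZ hw (pow_sylowExp_iff.mpr hwp) (coprime_of_pEl hrq hwp)

omit [Finite G] hq hr in
theorem rPart_le_cent (h : G) : rPart h r ≤ C[h] := fun _ hw => (mem_centPow.mp hw).1

theorem card_rPart_ge (S : Sizes G m n) (hnq : n = q ^ b)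
    (hB : ∀ g : G, ∃ v ∈ C[g], IsPEl q v ∧ v ∉ center G) (hrq : r ≠ q) (hrn : ¬ r ∣ n)
    {h d : G} (hhq : (orderOf h).Coprime q) (hhZ : h ∉ center G) (hd : d ∉ center G) :
    r ^ (Nat.card C[d]).factorization r ≤ Nat.card (rPart h r) := by
  have h1 := S.factorization_cent hrn hd
  have h2 := S.factorization_cent hrn hhZ
  rw [show (Nat.card C[d]).factorization r = (Nat.card C[h]).factorization r by omega]
  obtain ⟨T, hTle, hTp, hTc⟩ := H36.exists_full_pSubgroup r C[h]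
  exact hTc ▸ card_le_of_le (fun w hw =>
    S.mem_rPart hnq hB hrq hhq hhZ (hTle hw) (isPEl_of_mem hTp hw))

omit [Finite G] hq hr in
theorem conj_mem_cent {u h w : G} (he : C[u * h * u⁻¹] = C[h]) (hw : w ∈ C[h]) :
    u * w * u⁻¹ ∈ C[h] := by
  rw [← he, mem_cent_conj]
  simpa [mul_assoc] using hw

omit [Finite G] hq hr in
theorem conj_mem_centPow' {u h w : G} {M : ℕ} (he : C[u * h * u⁻¹] = C[h])
    (hw : w ∈ centPow h M) : u * w * u⁻¹ ∈ centPow h M := by
  rw [← centPow_eq_of_cent_eq M he]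
  exact conj_mem_centPow hw

/-- If all prime divisors but `q` of the index of the normaliser of `centPow h M` are excluded,
the normal closure centralises `z`. -/
theorem normalClosure_le_cent (S : Sizes G m n) (hqn : q ∣ n) {h z : G} {M : ℕ}
    (hzh : z ∈ C[h]) (hzm : (C[z]).index = m)
    (hN : ∀ p : ℕ, p.Prime → p ≠ q → ¬ p ∣ (normalizer ((centPow h M : Subgroup G) : Set G)).index) :
    normalClosure ((centPow h M : Subgroup G) : Set G) ≤ C[z] := by
  have hcop : (C[z]).index.Coprime (normalizer ((centPow h M : Subgroup G) : Set G)).index := by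
    refine Nat.coprime_of_dvd fun p hp h1 h2 => ?_
    rw [hzm] at h1
    rcases eq_or_ne p q with rfl | hpq
    · exact S.not_dvd_m hp hqn h1
    · exact hN p hp hpq h2
  refine (closure_le _).mpr fun v hv => ?_
  simp only [Group.mem_conjugatesOfSet_iff] at hv
  obtain ⟨w, hw, hwv⟩ := hv
  obtain ⟨g, rfl⟩ := isConj_iff.mp hwv
  obtain ⟨x, hx, y, hy, rfl⟩ := H1.exists_mul_eq_of_coprime_index _ _ hcop g
  have h1 : y * w * y⁻¹ ∈ centPow h M := (mem_normalizer_iff.mp hy w).mp hw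
  have h2 : y * w * y⁻¹ ∈ C[z] := mem_cent_symm.mp ((mem_centPow.mp h1).2.1 hzh)
  rw [show x * y * w * (x * y)⁻¹ = x * (y * w * y⁻¹) * x⁻¹ by group]
  exact mul_mem (mul_mem hx h2) (inv_mem hx)

omit [Finite G] hq hr in
theorem le_normalizer_centPow {h : G} {M : ℕ} :
    C[h] ≤ normalizer ((centPow h M : Subgroup G) : Set G) := fun v hv => mem_normalizer_iff.mpr
  fun w => by
    have hfix : ∀ a ∈ centPow h M, v * a * v⁻¹ = a := fun a ha => by
      rw [mem_cent.mp ((mem_centPow.mp ha).2.1 hv), mul_inv_cancel_right]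
    refine ⟨fun hw => (hfix w hw).symm ▸ hw, fun hw => ?_⟩
    have h1 := hfix _ hw
    have h2 : v * w * v⁻¹ = w := by
      have := congrArg (fun t => v⁻¹ * t * v) h1
      simpa [mul_assoc] using this
    rwa [← h2]

omit [Finite G] hq hr in
theorem mem_normalizer_centPow {u h : G} {M : ℕ}
    (he : C[u * h * u⁻¹] = C[h]) : u ∈ normalizer ((centPow h M : Subgroup G) : Set G) := by
  refine mem_normalizer_iff.mpr fun w => ⟨conj_mem_centPow' he, fun hw => ?_⟩
  have he' : C[u⁻¹ * h * u⁻¹⁻¹] = C[h] := by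
    ext v
    rw [mem_cent_conj, inv_inv]
    conv_lhs => rw [← he, mem_cent_conj]
    rw [show u⁻¹ * (u * v * u⁻¹) * u = v by group]
  have := conj_mem_centPow' he' hw
  simpa [mul_assoc] using this

/-- The index of a Sylow subgroup is squarefree for primes dividing `m`. -/
theorem factorization_le_one (S : Sizes G m n) (hnq : n = q ^ b)
    (hB : ∀ g : G, ∃ v ∈ C[g], IsPEl q v ∧ v ∉ center G) (hrm : r ∣ m) :
    m.factorization r = 1 := by
  classical
  have hb : b ≠ 0 := fun h0 => S.one_lt_n.ne' (by rw [hnq, h0, pow_zero])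
  have hqn : q ∣ n := hnq ▸ dvd_pow_self q hb
  have hrn : ¬ r ∣ n := S.not_dvd_n hr.out hrm
  have hrq : r ≠ q := fun he => hrn (he ▸ hqn)
  obtain ⟨R⟩ : Nonempty (Sylow r G) := inferInstance
  obtain ⟨h, hhZ, hhq, hfix⟩ := S.exists_fixed hnq hB hrm R.isPGroup'
  set A := rPart h r with hAdef
  have hnormA : ∀ u ∈ (R : Subgroup G), ∀ a ∈ A, u * a * u⁻¹ ∈ A := fun u hu a ha =>
    conj_mem_centPow' (hfix u hu) ha
  have hAR : A ≤ (R : Subgroup G) := le_sylow_of_normalised R (isPGroup_rPart h) hnormA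
  have hAZ : ¬ A ≤ center G := fun hle => by
    obtain ⟨w, hwh, hw, hwZ⟩ := S.exists_pEl_of_dvd_m hrm h
    exact hwZ (hle (S.mem_rPart hnq hB hrq hhq hhZ hwh hw))
  have hmemA : ∀ u ∈ (R : Subgroup G), u ∈ C[h] → u ∈ A := fun u hu huh =>
    S.mem_rPart hnq hB hrq hhq hhZ huh (isPEl_of_mem R.isPGroup' hu)
  -- `u ^ r ∈ A`
  obtain ⟨a, haA, haZ, har, hac⟩ := exists_central_mod' R.isPGroup' hAR hAZ hnormA
  have haq : (orderOf a).Coprime q := coprime_of_pEl hrq (isPEl_of_mem (isPGroup_rPart h) haA)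
  have hCa : C[a] = C[h] :=
    S.cent_eq_reg hnq hB hhq hhZ (rPart_le_cent h haA) haq haZ
  have hpow : ∀ u ∈ (R : Subgroup G), u ^ r ∈ A := fun u hu => by
    obtain ⟨c, hc, hcu⟩ := hac u hu
    exact hmemA _ (pow_mem hu r) (hCa ▸ mem_cent_comm.mpr (pow_commute_of_comm_mod hc hcu har).symm)
  have hfree : ∀ u ∈ (R : Subgroup G), u ∉ A → ∀ d, d ∉ center G → A ≤ C[d] → ¬ Commute u d := by
    intro u hu huA d hdZ hAd hud
    have hle : A ⊔ zpowers u ≤ C[d] :=
      sup_le hAd (zpowers_le.mpr (mem_cent_comm.mpr hud.symm))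
    have hp : IsPGroup r (A ⊔ zpowers u : Subgroup G) :=
      R.isPGroup'.to_le (sup_le hAR (zpowers_le.mpr hu))
    have h1 := (H36.card_le_of_pSubgroup hp hle).trans (S.card_rPart_ge hnq hB hrq hrn hhq hhZ hdZ)
    have h2 := eq_of_le_of_card_ge (le_sup_left : A ≤ A ⊔ zpowers u) h1
    exact huA (h2 ▸ mem_sup_right (mem_zpowers u))
  suffices hrel : A.relIndex (R : Subgroup G) ∣ r by
    have h1 := S.factorization_cent (r := r) hrn hhZ
    obtain ⟨k, hk⟩ := IsPGroup.iff_card.mp (isPGroup_rPart (r := r) h)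
    have h2 : Nat.card A * A.relIndex (R : Subgroup G) = Nat.card (R : Subgroup G) := by
      rw [← relIndex_bot_left, relIndex_mul_relIndex _ _ _ bot_le hAR, relIndex_bot_left]
    have h3 : Nat.card A = r ^ (Nat.card C[h]).factorization r :=
      le_antisymm (H36.card_le_of_pSubgroup (isPGroup_rPart h) (rPart_le_cent h))
        (S.card_rPart_ge hnq hB hrq hrn hhq hhZ hhZ)
    rw [h3, R.card_eq_multiplicity, ← h1, pow_add] at h2
    have h4 := Nat.eq_of_mul_eq_mul_left (pow_pos hr.out.pos _) h2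
    rw [h4] at hrel
    have h5 : m.factorization r ≤ 1 := by
      refine (Nat.pow_dvd_pow_iff_le_right hr.out.one_lt).mp ?_
      rwa [pow_one]
    have h6 : 1 ≤ m.factorization r :=
      hr.out.factorization_pos_of_dvd (by have := S.one_lt_m; omega) hrm
    omega
  by_cases hs : ∃ (s : ℕ) (_ : Fact s.Prime) (w : G),
      s ≠ q ∧ s ≠ r ∧ IsPEl s w ∧ w ∉ center G
  · -- a second prime
    obtain ⟨s, hsp, w, hsq, hsr, hw, hwZ⟩ := hs
    refine two_ops hsr.symm R.isPGroup' hnormA hpow (isPGroup_rPart (r := s) h) (fun hle => ?_)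
      (fun u hu v hv => conj_mem_centPow' (hfix u hu) hv)
      (fun v hv u hu => mem_cent_comm.mp ((mem_centPow.mp hv).2.1 (rPart_le_cent h hu)))
      fun u hu huA v hv hcm => ?_
    · have hsn : ¬ s ∣ n := fun hd => hsq ((Nat.prime_dvd_prime_iff_eq hsp.out hq.out).mp
        (hsp.out.dvd_of_dvd_pow (hnq ▸ hd)))
      obtain ⟨v, hvh, hv, hvZ⟩ := S.exists_pEl_in_cent' hsn hw hwZ h
      exact hvZ (hle (S.mem_rPart hnq hB hsq hhq hhZ hvh hv))
    · by_contra hvZ
      refine hfree u hu huA v hvZ ?_ hcm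
      exact (rPart_le_cent h).trans (mem_centPow.mp hv).2.1
  · -- only the primes `q` and `r`
    push Not at hs
    obtain ⟨i, hi⟩ := isPEl_of_mem (isPGroup_rPart (r := r) h) haA
    obtain ⟨z, hza, hz, hzm⟩ := S.exists_z hqn hB hrq ⟨i, hi⟩ haZ
    rw [hCa] at hza
    set M := regExp G q
    have haM : a ∈ centPow h M := mem_centPow.mpr
      ⟨rPart_le_cent h haA, (mem_centPow.mp haA).2.1, coprime_iff_pow_regExp.mp haq⟩
    set K := normalClosure ((centPow h M : Subgroup G) : Set G) with hKdef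
    have hKz : K ≤ C[z] := by
      refine S.normalClosure_le_cent hqn hza hzm fun p hp hpq => ?_
      haveI : Fact p.Prime := ⟨hp⟩
      rcases eq_or_ne p r with rfl | hpr
      · exact not_dvd_index_iff.mpr ⟨R, fun u hu => mem_normalizer_centPow (hfix u hu)⟩
      · obtain ⟨P⟩ : Nonempty (Sylow p G) := inferInstance
        exact not_dvd_index_iff.mpr ⟨P, fun u hu => le_normalizer_centPow
          (center_le_centralizer _ (hs p ⟨hp⟩ u hpq hpr (isPEl_of_mem P.isPGroup' hu)))⟩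
    set D := centralizer (K : Set G)
    haveI : D.Normal := Subgroup.normal_centralizer (H := K)
    have hhM : h ∈ centPow h M :=
      mem_centPow.mpr ⟨mem_cent.mpr rfl, le_rfl, coprime_iff_pow_regExp.mp hhq⟩
    have hDh : D ≤ C[h] := centralizer_le (Set.singleton_subset_iff.mpr (subset_normalClosure hhM))
    have hcenD : ∀ (p : ℕ) [Fact p.Prime] (v : D), p ≠ q → IsPEl p v → v ∈ center D := by
      intro p _ v hpq hv
      have hv' : IsPEl p (v : G) := by
        obtain ⟨j, hj⟩ := hv; exact ⟨j, by rw [Subgroup.orderOf_coe, hj]⟩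
      exact mem_center_iff.mpr fun w => Subtype.ext (mem_cent.mp (S.cent_le_reg hnq hB hhq hhZ
        (hDh v.2) (coprime_of_pEl hpq hv') (hDh w.2)))
    obtain ⟨P⟩ : Nonempty (Sylow q D) := inferInstance
    set E := (P : Subgroup D).map D.subtype
    have hzE : z ∈ E := by
      have hzD : z ∈ D := le_cent_iff.mp hKz
      exact ⟨⟨z, hzD⟩, mem_sylow_of_regular_central hcenD P (by
        obtain ⟨j, hj⟩ := hz; exact ⟨j, by rw [Subgroup.orderOf_mk, hj]⟩), rfl⟩
    have hEK : ∀ v ∈ E, ∀ a ∈ centPow h M, Commute a v := fun v hv a ha =>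
      mem_centralizer_iff.mp ((map_subtype_le _) hv : v ∈ D) a (subset_normalClosure ha)
    refine two_ops hrq R.isPGroup' hnormA hpow (P.isPGroup'.map D.subtype)
      (fun hle => S.not_center_of_m hzm (hle hzE)) (fun u _ v hv => ?_)
      (fun v hv u hu => hEK u hu v (mem_centPow.mpr ⟨(mem_centPow.mp hv).1,
        (mem_centPow.mp hv).2.1, coprime_iff_pow_regExp.mp
          (coprime_of_pEl hrq (isPEl_of_mem (isPGroup_rPart h) hv))⟩))
      fun u hu huA v hv hcm => ?_
    · obtain ⟨v', hv', rfl⟩ := hv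
      refine ⟨⟨u * v' * u⁻¹, Subgroup.Normal.conj_mem inferInstance _ v'.2 u⟩,
        mem_sylow_of_regular_central hcenD P ?_, rfl⟩
      obtain ⟨j, hj⟩ := isPEl_of_mem P.isPGroup' hv'
      refine ⟨j, ?_⟩
      rw [Subgroup.orderOf_mk, ← MulAut.conj_apply, MulEquiv.orderOf_eq, Subgroup.orderOf_coe, hj]
    · by_contra hvZ
      refine hfree u hu huA v hvZ (fun w hw => mem_cent_comm.mpr (hEK v hv w ?_).symm) hcm
      exact mem_centPow.mpr ⟨(mem_centPow.mp hw).1, (mem_centPow.mp hw).2.1,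
        coprime_iff_pow_regExp.mp (coprime_of_pEl hrq (isPEl_of_mem (isPGroup_rPart h) hw))⟩

theorem not_dvd_index_normalizer (S : Sizes G m n) (hnq : n = q ^ b)
    (hB : ∀ g : G, ∃ v ∈ C[g], IsPEl q v ∧ v ∉ center G)
    {h : G} (hhq : (orderOf h).Coprime q) (hhZ : h ∉ center G) {p : ℕ} (hp : p.Prime)
    (hpq : p ≠ q) :
    ¬ p ∣ (normalizer ((centPow h (regExp G q) : Subgroup G) : Set G)).index := by
  haveI : Fact p.Prime := ⟨hp⟩
  by_cases hpm : p ∣ m
  · have hpn := S.not_dvd_n hp hpm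
    have hfac := S.factorization_cent (r := p) hpn hhZ
    rw [S.factorization_le_one hnq hB hpm] at hfac
    set A := rPart h p
    have hAcard : Nat.card A = p ^ (Nat.card C[h]).factorization p :=
      le_antisymm (H36.card_le_of_pSubgroup (isPGroup_rPart h) (rPart_le_cent h))
        (S.card_rPart_ge hnq hB hpq hpn hhq hhZ hhZ)
    obtain ⟨R, hAR⟩ := (isPGroup_rPart (r := p) h).exists_le_sylow
    have hidx : (A.subgroupOf (R : Subgroup G)).index = p := by
      have h2 := (A.subgroupOf (R : Subgroup G)).card_mul_index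
      rw [Nat.card_congr (subgroupOfEquivOfLe hAR).toEquiv, hAcard, R.card_eq_multiplicity,
        ← hfac, pow_succ] at h2
      exact Nat.eq_of_mul_eq_mul_left (pow_pos hp.pos _) h2
    have hnR : (A.subgroupOf (R : Subgroup G)).Normal := by
      refine Subgroup.normal_of_index_eq_minFac_card ?_
      rw [hidx, R.card_eq_multiplicity]
      refine (Nat.Prime.pow_minFac hp ?_).symm
      omega
    obtain ⟨w, hwh, hw, hwZ⟩ := S.exists_pEl_of_dvd_m hpm h
    have hwA : w ∈ A := S.mem_rPart hnq hB hpq hhq hhZ hwh hw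
    have hCw : C[w] = C[h] := S.cent_eq_reg hnq hB hhq hhZ hwh (coprime_of_pEl hpq hw) hwZ
    refine not_dvd_index_iff.mpr ⟨R, fun u hu => mem_normalizer_centPow ?_⟩
    have h1 : u * w * u⁻¹ ∈ A := hnR.conj_mem ⟨w, hAR hwA⟩ hwA ⟨u, hu⟩
    have h2 : C[u * w * u⁻¹] = C[h] := S.cent_eq_reg hnq hB hhq hhZ (rPart_le_cent h h1)
      (coprime_of_pEl hpq (H36.isPEl_conj hw u))
      (fun hc => hwZ (by
        have := (Subgroup.Normal.conj_mem inferInstance _ hc u⁻¹ : _ ∈ center G)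
        simpa [mul_assoc] using this))
    rw [cent_conj, ← hCw, ← cent_conj, h2, hCw]
  · refine fun hd => ?_
    have hpc : ¬ p ∣ (C[h]).index := by
      intro hd'
      rcases (hp.dvd_mul).mp (hd'.trans (S.dvd_mn h)) with h1 | h1
      · exact hpm h1
      · exact hpq ((Nat.prime_dvd_prime_iff_eq hp hq.out).mp (hp.dvd_of_dvd_pow (hnq ▸ h1)))
    exact hpc (hd.trans (index_dvd_of_le le_normalizer_centPow))

/-- This case is impossible. -/
theorem not_big (S : Sizes G m n) (hnq : n = q ^ b)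
    (hB : ∀ g : G, ∃ v ∈ C[g], IsPEl q v ∧ v ∉ center G) : False := by
  classical
  have hb : b ≠ 0 := fun h0 => S.one_lt_n.ne' (by rw [hnq, h0, pow_zero])
  have hqn : q ∣ n := hnq ▸ dvd_pow_self q hb
  set r := m.minFac
  haveI : Fact r.Prime := ⟨Nat.minFac_prime S.one_lt_m.ne'⟩
  have hr : r.Prime := Fact.out
  have hrm : r ∣ m := Nat.minFac_dvd m
  have hrn := S.not_dvd_n hr hrm
  have hrq : r ≠ q := fun he => hrn (he ▸ hqn)
  set M := regExp G q
  -- data attached to a noncentral `r`-element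
  have key : ∀ h : G, IsPEl r h → h ∉ center G → ∃ z : G, IsPEl q z ∧ (C[z]).index = m ∧
      normalClosure ((centPow h M : Subgroup G) : Set G) ≤ C[z] ∧
      h ∈ centPow h M ∧ rPart h r ≤ centPow h M := by
    intro h hh hhZ
    have hhq := coprime_of_pEl hrq hh
    obtain ⟨z, hzh, hz, hzm⟩ := S.exists_z hqn hB hrq hh hhZ
    refine ⟨z, hz, hzm, S.normalClosure_le_cent hqn hzh hzm
      (fun p hp hpq => S.not_dvd_index_normalizer hnq hB hhq hhZ hp hpq),
      mem_centPow.mpr ⟨mem_cent.mpr rfl, le_rfl, coprime_iff_pow_regExp.mp hhq⟩,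
      fun w hw => mem_centPow.mpr ⟨(mem_centPow.mp hw).1, (mem_centPow.mp hw).2.1,
        coprime_iff_pow_regExp.mp (coprime_of_pEl hrq (isPEl_of_mem (isPGroup_rPart h) hw))⟩⟩
  obtain ⟨h₁, hh₁, hh₁Z⟩ := S.exists_noncentral_pEl_of_dvd (r := r) (hrm.mul_right n)
  obtain ⟨z₁, hz₁, hz₁m, hK₁, hh₁M, hA₁⟩ := key h₁ hh₁ hh₁Z
  set K₁ := normalClosure ((centPow h₁ M : Subgroup G) : Set G)
  obtain ⟨y, hy, hyK⟩ : ∃ y : G, IsPEl r y ∧ y ∉ K₁ := by
    by_contra hall
    push Not at hall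
    obtain ⟨R⟩ : Nonempty (Sylow r G) := inferInstance
    exact not_dvd_index_iff.mpr ⟨R, fun v hv => hK₁ (hall v (isPEl_of_mem R.isPGroup' hv))⟩
      (hz₁m ▸ hrm : r ∣ (C[z₁]).index)
  have hyZ : y ∉ center G := fun hc => hyK (subset_normalClosure (mem_centPow.mpr
    ⟨center_le_centralizer _ hc, fun a _ => mem_cent.mpr (mem_center_iff.mp hc a),
      coprime_iff_pow_regExp.mp (coprime_of_pEl hrq hy)⟩))
  obtain ⟨z₂, hz₂, hz₂m, hK₂, hyM, hA₂⟩ := key y hy hyZ
  set K₂ := normalClosure ((centPow y M : Subgroup G) : Set G)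
  -- conjugation into `rPart`
  have hconj : ∀ h d g : G, IsPEl r h → h ∉ center G → d ∉ center G → rPart h r ≤ C[d] →
      IsPEl r g → g ∈ C[d] → ∃ x : G, x⁻¹ * g * x ∈ rPart h r := fun h d g hh hhZ hdZ hle hg hgd => by
    obtain ⟨x, -, hx⟩ := exists_conj_mem_full (isPGroup_rPart h) hle
      (S.card_rPart_ge hnq hB hrq hrn (coprime_of_pEl hrq hh) hhZ hdZ) hg hgd
    exact ⟨x, hx⟩
  have hd : ∀ d ∈ centralizer (K₁ : Set G), d ∈ centralizer (K₂ : Set G) → d ∈ center G := by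
    intro d hd1 hd2
    by_contra hdZ
    obtain ⟨x, hx⟩ := hconj h₁ d y hh₁ hh₁Z hdZ
      (fun w hw => le_cent_iff.mpr hd1 (subset_normalClosure (hA₁ hw))) hy
      (le_cent_iff.mpr hd2 (subset_normalClosure hyM))
    have hx' : x⁻¹ * y * x ∈ K₁ := subset_normalClosure (hA₁ hx)
    have := (normalClosure_normal (s := (((centPow h₁ M : Subgroup G)) : Set G))).conj_mem _ hx' x
    exact hyK (by simpa [mul_assoc] using this)
  obtain ⟨g, hgc, hg, hgZ⟩ := S.exists_pEl_of_dvd_m (r := r) hrm (z₁ * z₂)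
  -- `g` centralises `z₁` and `z₂`
  have hz₁K : z₁ ∈ centralizer (K₁ : Set G) := le_cent_iff.mp hK₁
  have hz₂K : z₂ ∈ centralizer (K₂ : Set G) := le_cent_iff.mp hK₂
  haveI : (centralizer (K₁ : Set G)).Normal := Subgroup.normal_centralizer (H := K₁)
  haveI : (centralizer (K₂ : Set G)).Normal := Subgroup.normal_centralizer (H := K₂)
  have hc : g * (z₁ * z₂) * g⁻¹ = z₁ * z₂ := by rw [mem_cent.mp hgc, mul_inv_cancel_right]
  set c := z₁⁻¹ * (g * z₁ * g⁻¹) with hcdef
  have hc' : c = z₂ * (g * z₂ * g⁻¹)⁻¹ := by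
    rw [hcdef, inv_mul_eq_iff_eq_mul, ← mul_assoc]
    conv_rhs => rw [← hc]
    group
  have hcZ : c ∈ center G := hd c
    (mul_mem (inv_mem hz₁K) (Subgroup.Normal.conj_mem inferInstance _ hz₁K g))
    (hc' ▸ mul_mem hz₂K (inv_mem (Subgroup.Normal.conj_mem inferInstance _ hz₂K g)))
  obtain ⟨i, hi⟩ := hg
  obtain ⟨j, hj⟩ := hz₁
  have hg1 : Commute g z₁ := commute_of_comm_mod (r := orderOf g) (N := orderOf z₁) hcZ
    (by rw [hcdef]; group) (by rw [pow_orderOf_eq_one]; exact Commute.one_left _)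
    (pow_orderOf_eq_one _)
    (by rw [hi, hj]; exact ((Nat.coprime_primes hr hq.out).mpr hrq).pow i j)
  have hg2 : Commute g z₂ := by
    have := hg1.inv_right.mul_right (mem_cent_comm.mp hgc).symm
    rwa [inv_mul_cancel_left] at this
  obtain ⟨x₁, hx₁⟩ := hconj h₁ z₁ g hh₁ hh₁Z (S.not_center_of_m hz₁m)
    (fun w hw => hK₁ (subset_normalClosure (hA₁ hw))) ⟨i, hi⟩ (mem_cent_comm.mpr hg1.symm)
  obtain ⟨x₂, hx₂⟩ := hconj y z₂ g hy hyZ (S.not_center_of_m hz₂m)
    (fun w hw => hK₂ (subset_normalClosure (hA₂ hw))) ⟨i, hi⟩ (mem_cent_comm.mpr hg2.symm)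
  set a₁ := x₁⁻¹ * g * x₁ with ha₁
  set a₂ := x₂⁻¹ * g * x₂
  have hne : ∀ x : G, x⁻¹ * g * x ∉ center G := fun x hx => hgZ (by
    have := (Subgroup.Normal.conj_mem inferInstance _ hx x : _ ∈ center G)
    simpa [mul_assoc] using this)
  have hC : ∀ (h x : G), IsPEl r h → h ∉ center G → x⁻¹ * g * x ∈ rPart h r →
      C[x⁻¹ * g * x] = C[h] := fun h x hh hhZ hx =>
    S.cent_eq_reg hnq hB (coprime_of_pEl hrq hh) hhZ (rPart_le_cent h hx)
      (coprime_of_pEl hrq (isPEl_of_mem (isPGroup_rPart h) hx)) (hne x)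
  set t := x₂⁻¹ * x₁
  have ht : a₂ = t * a₁ * t⁻¹ := by simp only [a₂, a₁, t]; group
  have hyt : t⁻¹ * y * t ∈ C[h₁] := by
    rw [← hC h₁ x₁ hh₁ hh₁Z hx₁, ← ha₁, ← mem_cent_conj, ← ht, hC y x₂ hy hyZ hx₂]
    exact mem_cent.mpr rfl
  have hyA : t⁻¹ * y * t ∈ rPart h₁ r :=
    S.mem_rPart hnq hB hrq (coprime_of_pEl hrq hh₁) hh₁Z hyt
      (by simpa using H36.isPEl_conj hy t⁻¹)
  have := (normalClosure_normal (s := (((centPow h₁ M : Subgroup G)) : Set G))).conj_mem _
    (subset_normalClosure (hA₁ hyA)) t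
  exact hyK (by simpa [mul_assoc] using this)

/-- All centralisers of elements of class size `m` are abelian. -/
theorem abelian (S : Sizes G m n) {x : G} (hx : (C[x]).index = m) :
    ∀ a ∈ C[x], C[x] ≤ C[a] := by
  by_cases h2 : ∃ (p t : ℕ) (_ : Fact p.Prime) (_ : Fact t.Prime), p ∣ n ∧ t ∣ n ∧ p ≠ t
  · obtain ⟨p, t, hp, ht, hpn, htn, hne⟩ := h2
    exact S.abelian_of_two_primes hpn htn hne hx
  push Not at h2
  obtain ⟨p, hp, hpn⟩ := Nat.exists_prime_and_dvd S.one_lt_n.ne'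
  haveI : Fact p.Prime := ⟨hp⟩
  have hnq : n = p ^ n.primeFactorsList.length := by
    refine Nat.eq_prime_pow_of_unique_prime_dvd (by have := S.one_lt_n; omega) fun {d} hd hdn => ?_
    exact h2 d p ⟨hd⟩ ⟨hp⟩ hdn hpn
  by_cases hA : ∀ y : G, (C[y]).index = m * n → ∀ v ∈ C[y], IsPEl p v → v ∈ center G
  · exact S.abelian_of_no_qEl hpn hA hx
  exfalso
  push Not at hA
  obtain ⟨y, hy, v, hvy, hv, hvZ⟩ := hA
  refine S.not_big hnq fun g => ?_
  rw [exists_pEl_not_center_iff]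
  have h1 : p ∣ (center G).relIndex C[y] :=
    (exists_pEl_not_center_iff _).mp ⟨v, hvy, hv, hvZ⟩
  obtain ⟨e, he⟩ := (hy ▸ S.dvd_mn g : (C[g]).index ∣ (C[y]).index)
  have h3 := relIndex_eq y g
  rw [he, mul_comm (C[g]).index, ← mul_assoc] at h3
  rw [Nat.eq_of_mul_eq_mul_right (cent_pos g) h3]
  exact h1.mul_right e

end Sizes

end H27.CMN
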