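import Cfsg.Agent.H27.CoprimeSizes.Abelian
import Cfsg.Agent.H27.SolCount
import Cfsg.Agent.H1.AbelianPComplement

/-!
`n = q ^ b` and all centralisers contain noncentral `q`-elements: structure of the centralisers of
`q`-regular elements, and a counting argument.
-/

set_option autoImplicit false
set_option linter.style.haveILetI false

namespace H27.CMN

open Subgroup
open H36 (IsPEl isPEl_of_mem)

local notation "C[" x "]" => Subgroup.centralizer (Singleton.singleton x : Set _)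

variable {G : Type*} [Group G] [Finite G]

/-- Central elements of a centraliser killed by `M`. -/
def centPow (h : G) (M : ℕ) : Subgroup G where
  carrier := {w | w ∈ C[h] ∧ w ∈ centralizer (C[h] : Set G) ∧ w ^ M = 1}
  one_mem' := ⟨one_mem _, one_mem _, one_pow M⟩
  mul_mem' := fun {a b} ha hb => ⟨mul_mem ha.1 hb.1, mul_mem ha.2.1 hb.2.1, by
    rw [(show Commute a b from (mem_centralizer_iff.mp ha.2.1 b hb.1).symm).mul_pow, ha.2.2,
      hb.2.2, one_mul]⟩
  inv_mem' := fun {a} ha => ⟨inv_mem ha.1, inv_mem ha.2.1, by rw [inv_pow, ha.2.2, inv_one]⟩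

omit [Finite G] in
theorem mem_centPow {h w : G} {M : ℕ} :
    w ∈ centPow h M ↔ w ∈ C[h] ∧ C[h] ≤ C[w] ∧ w ^ M = 1 := by
  rw [le_cent_iff]; rfl

omit [Finite G] in
theorem centPow_eq_of_cent_eq {h h' : G} (M : ℕ) (he : C[h] = C[h']) :
    centPow h M = centPow h' M := by
  ext w; rw [mem_centPow, mem_centPow, he]

omit [Finite G] in
theorem conj_mem_centPow {g h w : G} {M : ℕ} (hw : w ∈ centPow h M) :
    g * w * g⁻¹ ∈ centPow (g * h * g⁻¹) M := by
  obtain ⟨h1, h2, h3⟩ := mem_centPow.mp hw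
  refine mem_centPow.mpr ⟨?_, fun v hv => ?_, by rw [conj_pow, h3, mul_one, mul_inv_cancel]⟩
  · rw [mem_cent_conj]; simpa [mul_assoc] using h1
  · rw [mem_cent_conj] at hv ⊢; exact h2 hv

omit [Finite G] in
theorem centPow_conj (g h : G) (M : ℕ) :
    centPow (g * h * g⁻¹) M = (centPow h M).map (MulAut.conj g).toMonoidHom := by
  apply le_antisymm
  · intro w hw
    refine Subgroup.mem_map.mpr ⟨g⁻¹ * w * g, ?_, by simp [mul_assoc]⟩
    have := conj_mem_centPow (g := g⁻¹) hw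
    simpa [mul_assoc] using this
  · intro v hv
    obtain ⟨w, hw, rfl⟩ := Subgroup.mem_map.mp hv
    exact conj_mem_centPow hw

/-- The `q'`-part of the group order. -/
noncomputable def regExp (G : Type*) (q : ℕ) : ℕ := ordCompl[q] (Nat.card G)

theorem coprime_iff_pow_regExp {q : ℕ} [hq : Fact q.Prime] {w : G} :
    (orderOf w).Coprime q ↔ w ^ regExp G q = 1 := by
  constructor
  · intro h
    refine orderOf_dvd_iff_pow_eq_one.mp
      (Nat.Coprime.dvd_of_dvd_mul_left (h.pow_right ((Nat.card G).factorization q)) ?_)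
    rw [regExp, Nat.ordProj_mul_ordCompl_eq_self]
    exact orderOf_dvd_natCard w
  · exact fun h => Nat.Coprime.coprime_dvd_left (orderOf_dvd_of_pow_eq_one h)
      (Nat.coprime_ordCompl hq.out Nat.card_pos.ne').symm

theorem pow_sylowExp_iff {r : ℕ} [hr : Fact r.Prime] {w : G} :
    w ^ r ^ (Nat.card G).factorization r = 1 ↔ IsPEl r w := H36.isPEl_iff.symm

variable {m n q b : ℕ} [hq : Fact q.Prime]

namespace Sizes

theorem cent_le_aux (S : Sizes G m n) (hnq : n = q ^ b)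
    (hB : ∀ g : G, ∃ v ∈ C[g], IsPEl q v ∧ v ∉ center G)
    {p : ℕ} [hp : Fact p.Prime] {h w : G} (hpq : p ≠ q) (hh : IsPEl p h) (hhZ : h ∉ center G)
    (hw : w ∈ C[h]) (hwq : (orderOf w).Coprime q) : C[h] ≤ C[w] := by
  have hb : b ≠ 0 := fun h0 => S.one_lt_n.ne' (by rw [hnq, h0, pow_zero])
  have hqn : q ∣ n := hnq ▸ dvd_pow_self q hb
  have hpn : ¬ p ∣ n := fun hd => hpq ((Nat.prime_dvd_prime_iff_eq hp.out hq.out).mp
    (hp.out.dvd_of_dvd_pow (hnq ▸ hd)))
  rcases S.cases_of_not_center hhZ with hk | hk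
  · -- `h` has class size `m`
    obtain ⟨z, hz, hzm, hzh⟩ := S.exists_qEl_cent hqn hk
    have hnd : ∀ v : C[h], (C[v]).index = 1 ∨ (C[v]).index = n → ¬ p ∣ (C[v]).index := by
      rintro v (hv | hv) <;> rw [hv]
      exacts [hp.out.not_dvd_one, hpn]
    have hcen : ∀ v : C[h], IsPEl p v → v ∈ center C[h] := fun v hv =>
      pEl_central
        (fun v hv => hnd v (S.index_cases_of_eq rfl hk v (pEl_coprime hh hv)))
        (fun v hv => hnd v (S.index_cases_of_eq hzh.symm hzm v (pEl_coprime hz (by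
          obtain ⟨i, hi⟩ := hv
          rw [hi]; exact ((Nat.coprime_primes hp.out hq.out).mpr hpq).pow_left i)))) hv
    have htwo : ∀ v : C[h], (C[v]).index = 1 ∨ (C[v]).index = n := by
      intro v
      obtain ⟨a, c, hac, ha, hc⟩ := H36.exists_pow_decomp (p := p) v
      have h1 : C[v] = C[v ^ a] := by
        conv_lhs => rw [← hac]
        exact cent_mul_center (hcen _ hc) _
      rw [h1]
      exact S.index_cases_of_eq rfl hk _ (pEl_coprime hh ha)
    have hwc : (⟨w, hw⟩ : C[h]) ∈ center C[h] :=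
      H36.two_sizes_central_of_coprime htwo hnq hb (by rwa [Subgroup.orderOf_mk])
    exact fun a ha => mem_cent.mpr (congrArg Subtype.val (mem_center_iff.mp hwc ⟨a, ha⟩))
  · -- `h` has class size `m * n`
    obtain ⟨v, hvh, hv, hvZ⟩ := hB h
    have hhv : C[h] ≤ C[v] := S.cent_le_of_mn hk hvh (H36.coprime_of_isPEl hpq hh hv)
    rcases S.cases_of_not_center hvZ with hkv | hkv
    swap
    · rw [(S.eq_of_le_mn hkv hhv).2]
      exact S.cent_le_of_mn hkv (hhv hw) (pEl_coprime hv hwq)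
    refine le_cent_of_primary (fun t ht u hu hut => ?_) hw
    rcases eq_or_ne t p with rfl | htp
    swap
    · exact S.cent_le_of_mn hk hu (H36.coprime_of_isPEl htp.symm hh hut)
    -- `p`-elements of `C[h]`
    obtain ⟨Hc, hcomm, hnd, k, hk'⟩ := H1.RegClassPow.exists_complement (p := q) _ C[v] rfl
      (fun x hx => (S.index_cases_of_eq rfl hkv x (pEl_coprime hv hx)).elim
        (fun h1 => ⟨0, h1.trans (pow_zero q).symm⟩) fun h1 => ⟨b, h1.trans hnq⟩)
    obtain ⟨S0, hS0⟩ := exists_sylow_le_of_not_dvd_index (p := t) (H := Hc) (fun hd =>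
      hpq ((Nat.prime_dvd_prime_iff_eq hp.out hq.out).mp (hp.out.dvd_of_dvd_pow (hk' ▸ hd))))
    have hcen : ∀ (t' : ℕ) [Fact t'.Prime] (a : C[h]), t' ≠ t → IsPEl t' a → a ∈ center C[h] := by
      intro t' _ a hne ha
      have ha' : IsPEl t' (a : G) := by
        obtain ⟨i, hi⟩ := ha; exact ⟨i, by rw [Subgroup.orderOf_coe, hi]⟩
      exact mem_center_iff.mpr fun c => Subtype.ext (mem_cent.mp
        (S.cent_le_of_mn hk a.2 (H36.coprime_of_isPEl hne.symm hh ha') c.2))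
    obtain ⟨P⟩ : Nonempty (Sylow t C[h]) := inferInstance
    have hu' : (⟨u, hu⟩ : C[h]) ∈ (P : Subgroup C[h]) :=
      mem_sylow_of_regular_central hcen P (by
        obtain ⟨i, hi⟩ := hut; exact ⟨i, by rw [Subgroup.orderOf_mk, hi]⟩)
    intro a ha
    refine mem_of_primary C[u] a fun t' ht' i hai => ?_
    have hai' : a ^ i ∈ C[h] := pow_mem ha i
    rcases eq_or_ne t' t with rfl | hne
    swap
    · exact mem_cent_symm.mp
        (S.cent_le_of_mn hk hai' (H36.coprime_of_isPEl hne.symm hh hai) hu)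
    have ha' : (⟨a ^ i, hai'⟩ : C[h]) ∈ (P : Subgroup C[h]) :=
      mem_sylow_of_regular_central hcen P (by
        obtain ⟨j, hj⟩ := hai; exact ⟨j, by rw [Subgroup.orderOf_mk, hj]⟩)
    obtain ⟨P1, hP1⟩ := (P.isPGroup'.map (inclusion hhv)).exists_le_sylow
    obtain ⟨g, rfl⟩ := MulAction.exists_smul_eq C[v] S0 P1
    rw [Sylow.coe_subgroup_smul] at hP1
    obtain ⟨u1, hu1, hu2⟩ := hP1 (mem_map_of_mem (inclusion hhv) hu')
    obtain ⟨a1, ha1, ha2⟩ := hP1 (mem_map_of_mem (inclusion hhv) ha')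
    have h3 : (g * u1 * g⁻¹) * (g * a1 * g⁻¹) = (g * a1 * g⁻¹) * (g * u1 * g⁻¹) := by
      calc (g * u1 * g⁻¹) * (g * a1 * g⁻¹) = g * (u1 * a1) * g⁻¹ := by group
        _ = g * (a1 * u1) * g⁻¹ := by rw [hcomm _ (hS0 hu1) _ (hS0 ha1)]
        _ = _ := by group
    replace hu2 : g * u1 * g⁻¹ = inclusion hhv ⟨u, hu⟩ := hu2
    replace ha2 : g * a1 * g⁻¹ = inclusion hhv ⟨a ^ i, hai'⟩ := ha2
    rw [hu2, ha2] at h3
    exact mem_cent.mpr (congrArg Subtype.val h3).symm

theorem cent_le_reg (S : Sizes G m n) (hnq : n = q ^ b)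
    (hB : ∀ g : G, ∃ v ∈ C[g], IsPEl q v ∧ v ∉ center G)
    {h w : G} (hhq : (orderOf h).Coprime q) (hhZ : h ∉ center G) (hw : w ∈ C[h])
    (hwq : (orderOf w).Coprime q) : C[h] ≤ C[w] := by
  obtain ⟨p, hp, i, hip, hiZ⟩ := H36.exists_primary_not_mem (center G) hhZ
  have hpq : p ≠ q := by
    rintro rfl
    exact hiZ (H36.isPEl_of_coprime hip (hhq.coprime_dvd_left (orderOf_pow_dvd i)) ▸ one_mem _)
  have h2 : C[h ^ i] ≤ C[h] := S.cent_le_aux hnq hB hpq hip hiZ
    (mem_cent_comm.mpr (Commute.pow_self h i)) hhq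
  rw [le_antisymm (cent_le_cent_pow h i) h2] at hw ⊢
  exact S.cent_le_aux hnq hB hpq hip hiZ hw hwq

theorem cent_eq_reg (S : Sizes G m n) (hnq : n = q ^ b)
    (hB : ∀ g : G, ∃ v ∈ C[g], IsPEl q v ∧ v ∉ center G)
    {h w : G} (hhq : (orderOf h).Coprime q) (hhZ : h ∉ center G) (hw : w ∈ C[h])
    (hwq : (orderOf w).Coprime q) (hwZ : w ∉ center G) : C[w] = C[h] :=
  le_antisymm (S.cent_le_reg hnq hB hwq hwZ (mem_cent_symm.mp hw) hhq)
    (S.cent_le_reg hnq hB hhq hhZ hw hwq)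

theorem mem_centPow_reg (S : Sizes G m n) (hnq : n = q ^ b)
    (hB : ∀ g : G, ∃ v ∈ C[g], IsPEl q v ∧ v ∉ center G)
    {h w : G} (hhq : (orderOf h).Coprime q) (hhZ : h ∉ center G) (hw : w ∈ C[h]) {M : ℕ}
    (hwM : w ^ M = 1) (hwq : (orderOf w).Coprime q) : w ∈ centPow h M :=
  mem_centPow.mpr ⟨hw, S.cent_le_reg hnq hB hhq hhZ hw hwq, hwM⟩

/-- Every centraliser contains a `q`-element of class size `m`. -/
theorem exists_z (S : Sizes G m n) (hqn : q ∣ n)
    (hB : ∀ g : G, ∃ v ∈ C[g], IsPEl q v ∧ v ∉ center G)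
    {p : ℕ} [hp : Fact p.Prime] {h : G} (hpq : p ≠ q) (hh : IsPEl p h) (hhZ : h ∉ center G) :
    ∃ z ∈ C[h], IsPEl q z ∧ (C[z]).index = m := by
  rcases S.cases_of_not_center hhZ with hk | hk
  · obtain ⟨z, hz, hzm, hzh⟩ := S.exists_qEl_cent hqn hk
    exact ⟨z, hzh ▸ mem_cent.mpr rfl, hz, hzm⟩
  · obtain ⟨v, hvh, hv, hvZ⟩ := hB h
    rcases S.cases_of_not_center hvZ with hkv | hkv
    · exact ⟨v, hvh, hv, hkv⟩
    · have hhv : C[h] ≤ C[v] := S.cent_le_of_mn hk hvh (H36.coprime_of_isPEl hpq hh hv)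
      obtain ⟨Q, hQ⟩ := (H36.isPGroup_zpowers_of_isPEl hv).exists_le_sylow
      obtain ⟨z, hz, hzm, -, hQz⟩ := S.exists_sylow_center hqn Q
      refine ⟨z, ?_, hz, hzm⟩
      rw [(S.eq_of_le_mn hkv hhv).2]
      exact mem_cent_symm.mp (hQz (hQ (mem_zpowers v)))

theorem factorization_cent (S : Sizes G m n) {r : ℕ} [hr : Fact r.Prime] (hrn : ¬ r ∣ n) {d : G}
    (hd : d ∉ center G) :
    (Nat.card C[d]).factorization r + m.factorization r = (Nat.card G).factorization r := by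
  rw [← card_cent_mul_index d,
    Nat.factorization_mul Nat.card_pos.ne' (cent_pos d).ne', Finsupp.add_apply]
  rcases S.cases_of_not_center hd with h | h
  · rw [h]
  · rw [h, Nat.factorization_mul (by have := S.one_lt_m; omega) (by have := S.one_lt_n; omega),
      Finsupp.add_apply, Nat.factorization_eq_zero_of_not_dvd hrn, add_zero]

/-- Some `R`-invariant centraliser of a noncentral `q`-regular element. -/
theorem exists_fixed (S : Sizes G m n) (hnq : n = q ^ b)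
    (hB : ∀ g : G, ∃ v ∈ C[g], IsPEl q v ∧ v ∉ center G)
    {r : ℕ} [hr : Fact r.Prime] (hrm : r ∣ m) {R : Subgroup G} (hR : IsPGroup r R) :
    ∃ h : G, h ∉ center G ∧ (orderOf h).Coprime q ∧ ∀ u ∈ R, C[u * h * u⁻¹] = C[h] := by
  classical
  cases nonempty_fintype G
  have hb : b ≠ 0 := fun h0 => S.one_lt_n.ne' (by rw [hnq, h0, pow_zero])
  have hqn : q ∣ n := hnq ▸ dvd_pow_self q hb
  have hrq : r ≠ q := fun he => S.not_dvd_n hr.out hrm (he ▸ hqn)
  set M := regExp G q with hM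
  set Hs : G → Subgroup G := fun h => centPow h M
  let T := {H : Subgroup G // ∃ h : G, h ∉ center G ∧ h ^ M = 1 ∧ Hs h = H}
  have huniq : ∀ H : T, ∀ w ∈ H.1, w ∉ center G → w ^ M = 1 ∧ Hs w = H.1 := by
    rintro ⟨_, h, hhZ, hhM, rfl⟩ w hw hwZ
    obtain ⟨h1, -, h3⟩ := mem_centPow.mp hw
    exact ⟨h3, centPow_eq_of_cent_eq M (S.cent_eq_reg hnq hB (coprime_iff_pow_regExp.mpr hhM) hhZ
      h1 (coprime_iff_pow_regExp.mpr h3) hwZ)⟩
  set Z0 := centPow (1 : G) M with hZ0def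
  have hZ0 : ∀ w, w ∈ Z0 ↔ w ∈ center G ∧ w ^ M = 1 := by
    intro w
    have h1 : C[(1 : G)] = ⊤ := cent_eq_top_iff.mpr (one_mem _)
    rw [mem_centPow, h1, top_le_iff, cent_eq_top_iff]
    exact ⟨fun h => h.2, fun h => ⟨trivial, h⟩⟩
  set z0 := Nat.card Z0
  have hz0 : 0 < z0 := Nat.card_pos
  have hZH : ∀ H : T, Z0 ≤ H.1 ∧ Z0 = center G ⊓ H.1 := by
    rintro ⟨_, h, hhZ, hhM, rfl⟩
    have h1 : Z0 ≤ Hs h := fun w hw => by
      obtain ⟨hwc, hwM⟩ := (hZ0 w).mp hw
      exact mem_centPow.mpr ⟨center_le_centralizer _ hwc,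
        fun a _ => mem_cent.mpr (mem_center_iff.mp hwc a), hwM⟩
    exact ⟨h1, le_antisymm (le_inf (fun w hw => ((hZ0 w).mp hw).1) h1)
      fun w hw => (hZ0 w).mpr ⟨hw.1, (mem_centPow.mp hw.2).2.2⟩⟩
  have he : ∀ H : T, ∃ e : ℕ, 0 < e ∧ Nat.card H.1 = z0 * (r * e) := by
    intro H
    obtain ⟨h, hhZ, hhM, hH⟩ := H.2
    obtain ⟨w, hwh, hw, hwZ⟩ := S.exists_pEl_of_dvd_m (r := r) hrm h
    have hwq : (orderOf w).Coprime q := by
      obtain ⟨i, hi⟩ := hw
      rw [hi]; exact ((Nat.coprime_primes hr.out hq.out).mpr hrq).pow_left i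
    have hwH : w ∈ H.1 := hH ▸ S.mem_centPow_reg hnq hB (coprime_iff_pow_regExp.mpr hhM) hhZ
      hwh (coprime_iff_pow_regExp.mp hwq) hwq
    obtain ⟨e, he⟩ := (exists_pEl_not_center_iff H.1).mp ⟨w, hwH, hw, hwZ⟩
    have hcard : z0 * (center G).relIndex H.1 = Nat.card H.1 := by
      show Nat.card Z0 * _ = _
      rw [(hZH H).2, ← inf_relIndex_right, mul_comm, ← relIndex_bot_left, mul_comm,
        relIndex_mul_relIndex _ _ _ bot_le inf_le_right, relIndex_bot_left]
    refine ⟨e, Nat.pos_of_ne_zero fun h0 => ?_, by rw [← hcard, he]⟩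
    rw [he, h0] at hcard
    simp only [mul_zero] at hcard
    exact Nat.card_pos.ne hcard
  choose e hepos hcard using he
  -- the `q`-regular elements
  have hX : Nat.card {w : G // w ^ M = 1} = z0 + ∑ H : T, (Nat.card H.1 - z0) := by
    have h1 : Nat.card {w : G // w ^ M = 1} =
        Nat.card {w : {w : G // w ^ M = 1} // (w : G) ∈ center G} +
          Nat.card {w : {w : G // w ^ M = 1} // (w : G) ∉ center G} := by
      rw [← Nat.card_sum]; exact (Nat.card_congr (Equiv.sumCompl _)).symm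
    have h2 : Nat.card {w : {w : G // w ^ M = 1} // (w : G) ∈ center G} = z0 := Nat.card_congr
      { toFun := fun w => ⟨w.1.1, (hZ0 _).mpr ⟨w.2, w.1.2⟩⟩
        invFun := fun w => ⟨⟨w.1, ((hZ0 _).mp w.2).2⟩, ((hZ0 _).mp w.2).1⟩
        left_inv := fun _ => rfl
        right_inv := fun _ => rfl }
    have h3 : ∀ H : T, Nat.card {w : H.1 // (w : G) ∉ center G} = Nat.card H.1 - z0 := by
      intro H
      have h4 : Nat.card {w : H.1 // (w : G) ∈ center G} +
          Nat.card {w : H.1 // (w : G) ∉ center G} = Nat.card H.1 := by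
        rw [← Nat.card_sum]; exact Nat.card_congr (Equiv.sumCompl _)
      have h5 : Nat.card {w : H.1 // (w : G) ∈ center G} = z0 := Nat.card_congr
        { toFun := fun w => ⟨w.1.1, (hZH H).2 ▸ ⟨w.2, w.1.2⟩⟩
          invFun := fun w => ⟨⟨w.1, (hZH H).1 w.2⟩, ((hZ0 _).mp w.2).1⟩
          left_inv := fun _ => rfl
          right_inv := fun _ => rfl }
      omega
    have h6 : Nat.card {w : {w : G // w ^ M = 1} // (w : G) ∉ center G} =
        Nat.card (Σ H : T, {w : H.1 // (w : G) ∉ center G}) := Nat.card_congr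
      { toFun := fun w => ⟨⟨Hs w.1.1, w.1.1, w.2, w.1.2, rfl⟩, ⟨w.1.1, mem_centPow.mpr
          ⟨mem_cent.mpr rfl, le_rfl, w.1.2⟩⟩, w.2⟩
        invFun := fun s => ⟨⟨s.2.1.1, (huniq s.1 _ s.2.1.2 s.2.2).1⟩, s.2.2⟩
        left_inv := fun _ => rfl
        right_inv := fun s => by
          obtain ⟨H, ⟨w, hw⟩, hwZ⟩ := s
          obtain ⟨H, hH⟩ := H
          obtain rfl : Hs w = H := (huniq ⟨H, hH⟩ w hw hwZ).2
          rfl }
    rw [h1, h2, h6, Nat.card_sigma, Finset.sum_congr rfl fun H _ => h3 H]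
  obtain ⟨H0, hH0⟩ : ∃ H : T, True := by
    obtain ⟨u, hu, huZ⟩ := S.exists_noncentral_pEl_of_dvd (r := r) (hrm.mul_right n)
    refine ⟨⟨Hs u, u, huZ, coprime_iff_pow_regExp.mp ?_, rfl⟩, trivial⟩
    obtain ⟨i, hi⟩ := hu
    rw [hi]; exact ((Nat.coprime_primes hr.out hq.out).mpr hrq).pow_left i
  obtain ⟨f, hf⟩ : z0 * r ∣ Nat.card {w : G // w ^ M = 1} := by
    refine dvd_trans ?_ (gcd_card_dvd_card_pow_eq_one G M)
    have h1 : Nat.card H0.1 ∣ Nat.card G := card_subgroup_dvd_card _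
    have h2 : (Nat.card H0.1).Coprime (q ^ (Nat.card G).factorization q) := by
      refine ((hq.out.coprime_iff_not_dvd.mpr fun hd => ?_).symm).pow_right _
      obtain ⟨a, ha⟩ := exists_prime_orderOf_dvd_card' q hd
      obtain ⟨h, -, -, hH⟩ := H0.2
      have haM : (a : G) ^ M = 1 := (mem_centPow.mp (hH.symm ▸ a.2 : (a : G) ∈ Hs h)).2.2
      have := coprime_iff_pow_regExp.mpr haM
      rw [Subgroup.orderOf_coe, ha, Nat.coprime_self] at this
      exact hq.out.ne_one this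
    have h3 : Nat.card H0.1 ∣ M := h2.dvd_of_dvd_mul_left
      (h1.trans (dvd_of_eq (Nat.ordProj_mul_ordCompl_eq_self _ q).symm))
    refine Dvd.dvd.trans ?_ (Nat.dvd_gcd h3 h1)
    exact ⟨e H0, by rw [hcard, mul_assoc]⟩
  have hnd : ¬ r ∣ Nat.card T := by
    intro hd
    have h1 : z0 * (r * f) = z0 * (1 + ∑ H : T, (r * e H - 1)) := by
      rw [← mul_assoc, ← hf, hX, mul_add, mul_one, Finset.mul_sum]
      refine congrArg (z0 + ·) (Finset.sum_congr rfl fun H _ => ?_)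
      rw [hcard, Nat.mul_sub, mul_one]
    have h2 : ((r * f : ℕ) : ZMod r) = ((1 + ∑ H : T, (r * e H - 1) : ℕ) : ZMod r) :=
      congrArg _ (Nat.eq_of_mul_eq_mul_left hz0 h1)
    have h3 : ∀ H : T, ((r * e H - 1 : ℕ) : ZMod r) = -1 := fun H => by
      rw [Nat.cast_sub (Nat.mul_pos hr.out.pos (hepos H)), Nat.cast_mul, ZMod.natCast_self,
        zero_mul, Nat.cast_one, zero_sub]
    rw [Nat.cast_add, Nat.cast_sum, Finset.sum_congr rfl fun H _ => h3 H, Finset.sum_const,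
      nsmul_eq_mul, Finset.card_univ, ← Nat.card_eq_fintype_card,
      (ZMod.natCast_eq_zero_iff _ r).mpr hd, Nat.cast_mul, ZMod.natCast_self, zero_mul,
      Nat.cast_one, zero_mul, add_zero] at h2
    exact zero_ne_one h2
  let act : MulAction R T :=
    { smul := fun u H => ⟨H.1.map (MulAut.conj (u : G)).toMonoidHom, by
        obtain ⟨h, hhZ, hhM, hH⟩ := H.2
        refine ⟨(u : G) * h * (u : G)⁻¹, fun hc => hhZ ?_, by
          rw [conj_pow, hhM, mul_one, mul_inv_cancel],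
          (centPow_conj (u : G) h M).trans (by rw [← hH])⟩
        have := (Subgroup.Normal.conj_mem inferInstance _ hc (u : G)⁻¹ : _ ∈ center G)
        simpa [mul_assoc] using this⟩
      one_smul := fun H => Subtype.ext (by
        show H.1.map (MulAut.conj ((1 : R) : G)).toMonoidHom = H.1
        ext x; simp)
      mul_smul := fun u v H => Subtype.ext (by
        show H.1.map (MulAut.conj ((u * v : R) : G)).toMonoidHom =
          (H.1.map (MulAut.conj (v : G)).toMonoidHom).map (MulAut.conj (u : G)).toMonoidHom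
        rw [map_map]
        congr 1
        ext x; simp [mul_assoc]) }
  obtain ⟨H, hH⟩ := hR.nonempty_fixed_point_of_prime_not_dvd_card T hnd
  obtain ⟨h, hhZ, hhM, hHh⟩ := H.2
  refine ⟨h, hhZ, coprime_iff_pow_regExp.mpr hhM, fun u hu => ?_⟩
  have h1 : H.1.map (MulAut.conj u).toMonoidHom = H.1 := congrArg Subtype.val (hH ⟨u, hu⟩)
  have h2 : u * h * u⁻¹ ∈ H.1 := by
    rw [← h1]
    exact mem_map_of_mem _ (hHh ▸ mem_centPow.mpr ⟨mem_cent.mpr rfl, le_rfl, hhM⟩)
  rw [← hHh] at h2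
  obtain ⟨h3, -, h4⟩ := mem_centPow.mp h2
  refine S.cent_eq_reg hnq hB (coprime_iff_pow_regExp.mpr hhM) hhZ h3
    (coprime_iff_pow_regExp.mpr h4) fun hc => hhZ ?_
  have := (Subgroup.Normal.conj_mem inferInstance _ hc u⁻¹ : _ ∈ center G)
  simpa [mul_assoc] using this

end Sizes

end H27.CMN
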