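import Cfsg.Agent.H27.CoprimeSizes.Local
import Cfsg.Agent.H18.PGroupFour

/-! The structure theorem for class sizes `1, m, m * n` with `(m, n) = 1`. -/

set_option autoImplicit false
set_option linter.style.haveILetI false

namespace H27.CMN

open Subgroup
open H36 (IsPEl isPEl_of_mem)

local notation "C[" x "]" => Subgroup.centralizer (Singleton.singleton x : Set _)

variable {G : Type*} [Group G] [Finite G] {m n : ℕ}

namespace Sizes

theorem fac_m (S : Sizes G m n) {x : G} {r : ℕ} [hr : Fact r.Prime] (hx : (C[x]).index = m)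
    (hrm : r ∣ m) : m.factorization r = 1 := by
  haveI := S.cent_normal hx
  have h := (S.local_index hx hrm).2
  rwa [normalizer_eq_top_iff.mpr ‹_›, relIndex_top_right, hx] at h

theorem r_dvd_sub_one (S : Sizes G m n) {x : G} {r : ℕ} [hr : Fact r.Prime]
    (hx : (C[x]).index = m) (hrm : r ∣ m) : r ∣ n - 1 := by
  haveI := S.cent_normal hx
  refine S.dvd_sub_one hx hrm ?_
  rwa [normalizer_eq_top_iff.mpr ‹_›, relIndex_top_right, hx]

theorem mem_normalizer_all (S : Sizes G m n) {x : G} (hx : (C[x]).index = m) (u : G) :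
    u ∈ normalizer ((C[x] : Subgroup G) : Set G) := by
  haveI := S.cent_normal hx
  rw [normalizer_eq_top_iff.mpr ‹_›]
  exact mem_top u

theorem rPart_le_sylow (S : Sizes G m n) {x : G} {r : ℕ} [hr : Fact r.Prime]
    (hx : (C[x]).index = m) (R : Sylow r G) :
    rPart x r ≤ (R : Subgroup G) :=
  le_sylow_of_normalised R (isPGroup_rPart x)
    fun u _ _ ha => S.conj_mem_rPart hx (S.mem_normalizer_all hx u) ha

theorem relIndex_rPart_sylow (S : Sizes G m n) {x : G} {r : ℕ} [hr : Fact r.Prime]
    (hx : (C[x]).index = m) (hrm : r ∣ m) (R : Sylow r G) :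
    (rPart x r).relIndex (R : Subgroup G) = r := by
  set A := rPart x r
  have hle : A ≤ (R : Subgroup G) := S.rPart_le_sylow hx R
  have h1 : Nat.card A * A.relIndex (R : Subgroup G) = Nat.card (R : Subgroup G) := by
    rw [← relIndex_bot_left, relIndex_mul_relIndex _ _ _ bot_le hle, relIndex_bot_left]
  rw [show Nat.card A = _ from S.card_rPart hx, R.card_eq_multiplicity,
    ← S.factorization_cent (S.not_dvd_n hr.out hrm) (S.not_center_of_m hx), S.fac_m hx hrm,
    pow_succ] at h1
  exact Nat.eq_of_mul_eq_mul_left (pow_pos hr.out.pos _) h1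

/-- The image of `rPart x r` modulo the centre has order `r`. -/
theorem relIndex_center_rPart (S : Sizes G m n) {x : G} {r : ℕ} [hr : Fact r.Prime]
    (hx : (C[x]).index = m) (hrm : r ∣ m) : (center G).relIndex (rPart x r) = r := by
  set A := rPart x r
  obtain ⟨y, hy, hyC⟩ : ∃ y : G, IsPEl r y ∧ y ∉ C[x] := by
    by_contra hall
    push Not at hall
    obtain ⟨R⟩ : Nonempty (Sylow r G) := inferInstance
    exact not_dvd_index_iff.mpr ⟨R, fun v hv => hall v (isPEl_of_mem R.isPGroup' hv)⟩
      (hx ▸ hrm : r ∣ (C[x]).index)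
  have hyZ : y ∉ center G := fun h => hyC (center_le_centralizer _ h)
  obtain ⟨P, hPy, hPp, hPc⟩ := H36.exists_full_pSubgroup r C[y]
  obtain ⟨R, hPR⟩ := hPp.exists_le_sylow
  have hinf : A ⊓ P ≤ A ⊓ center G := le_inf inf_le_left fun v hv =>
    S.fixed_points hx hyC hv.1 (mem_cent_comm.mp (hPy hv.2))
  have hrn := S.not_dvd_n hr.out hrm
  have hcard : Nat.card A = Nat.card P := by
    rw [show Nat.card A = _ from S.card_rPart hx, hPc]
    have h1 := S.factorization_cent hrn (S.not_center_of_m hx)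
    have h2 := S.factorization_cent hrn hyZ
    congr 1
    omega
  have h1 : A.relIndex P ≤ r := (relIndex_le_of_le_right hPR (relIndex_ne_zero' _ _)).trans
    (S.relIndex_rPart_sylow hx hrm R).le
  have h2 : Nat.card (A ⊓ P : Subgroup G) * A.relIndex P = Nat.card P := by
    rw [← inf_relIndex_right A P, ← relIndex_bot_left,
      relIndex_mul_relIndex _ _ _ bot_le inf_le_right, relIndex_bot_left]
  have h3 : Nat.card (A ⊓ center G : Subgroup G) * (center G).relIndex A = Nat.card A := by
    rw [inf_comm, ← inf_relIndex_right (center G) A, ← relIndex_bot_left,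
      relIndex_mul_relIndex _ _ _ bot_le inf_le_right, relIndex_bot_left]
  have h4 : (center G).relIndex A ≤ r := by
    refine Nat.le_of_mul_le_mul_left ?_ (Nat.card_pos (α := (A ⊓ center G : Subgroup G)))
    rw [h3, hcard, ← h2]
    exact Nat.mul_le_mul (card_le_of_le hinf) h1
  have h5 : r ∣ (center G).relIndex A := by
    obtain ⟨w, hwx, hw, hwZ⟩ := S.exists_pEl_of_dvd_m (r := r) hrm x
    exact (exists_pEl_not_center_iff _).mp ⟨w, S.mem_rPart_ab hx hwx hw, hw, hwZ⟩
  exact le_antisymm h4 (Nat.le_of_dvd (Nat.pos_of_ne_zero (relIndex_ne_zero' _ _)) h5)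

theorem not_two_primes (S : Sizes G m n) {x : G} {r s : ℕ} [hr : Fact r.Prime] [hs : Fact s.Prime]
    (hx : (C[x]).index = m) (hrm : r ∣ m) (hsm : s ∣ m) (hlt : r < s) : False := by
  obtain ⟨u, hu, huC⟩ : ∃ u : G, IsPEl s u ∧ u ∉ C[x] := by
    by_contra hall
    push Not at hall
    obtain ⟨R⟩ : Nonempty (Sylow s G) := inferInstance
    exact not_dvd_index_iff.mpr ⟨R, fun v hv => hall v (isPEl_of_mem R.isPGroup' hv)⟩
      (hx ▸ hsm : s ∣ (C[x]).index)
  have h := card_map_modEq_one hlt.ne' (isPGroup_rPart (r := r) x) hu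
    (fun v _ w hw => S.conj_mem_rPart hx (S.mem_normalizer_all hx v) hw)
    (fun w hw hc => S.fixed_points hx huC hw hc)
  rw [← relIndex_bot_left, ← map_bot (QuotientGroup.mk' (center G)), relIndex_map_map, bot_sup_eq,
    QuotientGroup.ker_mk', relIndex_sup_right, S.relIndex_center_rPart hx hrm] at h
  exact hr.out.one_lt.ne' (h.eq_of_lt_of_lt hlt hs.out.one_lt)

theorem m_prime (S : Sizes G m n) {x : G} (hx : (C[x]).index = m) : m.Prime := by
  set r := m.minFac
  have hr : r.Prime := Nat.minFac_prime S.one_lt_m.ne'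
  haveI : Fact r.Prime := ⟨hr⟩
  have hrm : r ∣ m := Nat.minFac_dvd m
  have huniq : m = r ^ m.primeFactorsList.length := by
    refine Nat.eq_prime_pow_of_unique_prime_dvd (by have := S.one_lt_m; omega) fun {d} hd hdm => ?_
    haveI : Fact d.Prime := ⟨hd⟩
    rcases lt_trichotomy d r with h | h | h
    · exact (S.not_two_primes hx hdm hrm h).elim
    · exact h
    · exact (S.not_two_primes hx hrm hdm h).elim
  have h1 := S.fac_m hx hrm
  rw [huniq, hr.factorization_pow, Finsupp.single_eq_same] at h1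
  rw [huniq, h1, pow_one]
  exact hr

/-- The structure theorem. -/
theorem structure_theorem (S : Sizes G m n) :
    m.Prime ∧ m ∣ n - 1 ∧
      (∃ M : Subgroup G, M.Normal ∧
        (M : Set G) = {x : G | (C[x]).index = 1 ∨ (C[x]).index = m} ∧ M.index = m ∧
          IsMulCommutative M) ∧
      (∃ N : Subgroup G, N.Normal ∧ (Nat.card N).Coprime m ∧ ∃ a : ℕ, N.index = m ^ a) ∧
      ∀ P : Sylow m G, Nat.card (commutator (P : Subgroup G)) = m := by
  classical
  obtain ⟨x, hx⟩ := S.ex_m
  have hmp := S.m_prime hx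
  haveI : Fact m.Prime := ⟨hmp⟩
  have hCn := S.cent_normal hx
  refine ⟨hmp, S.r_dvd_sub_one hx dvd_rfl, ⟨C[x], hCn, ?_, hx, ?_⟩, ?_, fun P => ?_⟩
  · ext w
    refine ⟨fun hw => ?_, fun hw => ?_⟩
    · by_cases hwZ : w ∈ center G
      · exact Or.inl (index_cent_eq_one_iff.mpr hwZ)
      · exact Or.inr (S.cent_eq hx hw hwZ).1
    · rcases hw with hw | hw
      · exact center_le_centralizer _ (index_cent_eq_one_iff.mp hw)
      · obtain ⟨g, hg⟩ := S.exists_conj hx hw
        have h1 : w ∈ (C[x]).map (MulAut.conj g).toMonoidHom := hg ▸ mem_cent.mpr rfl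
        obtain ⟨v, hv, rfl⟩ := h1
        exact hCn.conj_mem v hv g
  · exact ⟨⟨fun a b => Subtype.ext (mem_cent.mp (S.abelian hx b b.2 a.2))⟩⟩
  · -- the normal `m`-complement
    set N := centPow x (regExp G m)
    have hN : N.Normal := ⟨fun v hv g => by
      suffices he : C[g * x * g⁻¹] = C[x] by
        show g * v * g⁻¹ ∈ centPow x (regExp G m)
        rw [← centPow_eq_of_cent_eq (regExp G m) he]
        exact conj_mem_centPow hv
      rw [cent_conj]
      ext w
      refine ⟨fun hw => ?_, fun hw => ⟨g⁻¹ * w * g, ?_, by simp [mul_assoc]⟩⟩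
      · obtain ⟨a, ha, rfl⟩ := hw
        exact hCn.conj_mem a ha g
      · simpa [mul_assoc] using hCn.conj_mem w hw g⁻¹⟩
    refine ⟨N, hN, ?_, ?_⟩
    · refine (hmp.coprime_iff_not_dvd.mpr fun hd => ?_).symm
      obtain ⟨a, ha⟩ := exists_prime_orderOf_dvd_card' m hd
      have := coprime_iff_pow_regExp.mpr (mem_centPow.mp a.2).2.2
      rw [Subgroup.orderOf_coe, ha, Nat.coprime_self] at this
      exact hmp.ne_one this
    · refine ⟨_, Nat.eq_prime_pow_of_unique_prime_dvd index_ne_zero_of_finite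
        fun {p} hp hpd => ?_⟩
      by_contra hpm
      haveI : Fact p.Prime := ⟨hp⟩
      obtain ⟨P, hP⟩ := exists_sylow_le_of_not_dvd_index (p := p) (H := C[x])
        (by rw [hx, Nat.prime_dvd_prime_iff_eq hp hmp]; exact hpm)
      refine not_dvd_index_iff.mpr ⟨P, fun v hv => ?_⟩ hpd
      exact mem_centPow.mpr ⟨hP hv, S.abelian hx v (hP hv), coprime_iff_pow_regExp.mp
        (coprime_of_pEl hpm (isPEl_of_mem P.isPGroup' hv))⟩
  · -- the commutator subgroup of a Sylow subgroup
    refine H18.card_commutator_eq_of_index_center_sq ?_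
    set A := rPart x m
    have hAP : A ≤ (P : Subgroup G) := S.rPart_le_sylow hx P
    have hcen : center (P : Subgroup G) = (center G).subgroupOf (P : Subgroup G) := by
      ext u
      rw [mem_subgroupOf]
      refine ⟨fun hu => ?_, fun hu => mem_center_iff.mpr fun v =>
        Subtype.ext (mem_center_iff.mp hu v)⟩
      by_contra huZ
      obtain ⟨a, haA, haZ⟩ := SetLike.not_le_iff_exists.mp (S.not_center_rPart hx (dvd_refl m))
      have hc : ∀ v ∈ (P : Subgroup G), v * (u : G) = (u : G) * v := fun v hv =>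
        congrArg Subtype.val (mem_center_iff.mp hu ⟨v, hv⟩)
      have huC : (u : G) ∈ C[x] :=
        (S.cent_eq hx (rPart_le_cent x haA) haZ).2 ▸ mem_cent.mpr (hc a (hAP haA)).symm
      have hPC : (P : Subgroup G) ≤ C[x] := fun v hv =>
        (S.cent_eq hx huC huZ).2 ▸ mem_cent.mpr (hc v hv)
      exact not_dvd_index_iff.mpr ⟨P, hPC⟩ (dvd_of_eq hx.symm)
    have hinf : center G ⊓ (P : Subgroup G) = center G ⊓ A := by
      refine le_antisymm (le_inf inf_le_left fun v hv => ?_) (inf_le_inf_left _ hAP)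
      exact S.mem_rPart_ab hx (center_le_centralizer _ hv.1) (isPEl_of_mem P.isPGroup' hv.2)
    rw [hcen, show ((center G).subgroupOf (P : Subgroup G)).index =
      (center G).relIndex (P : Subgroup G) from rfl, ← inf_relIndex_right, hinf,
      ← relIndex_mul_relIndex _ A _ inf_le_right hAP, inf_relIndex_right,
      S.relIndex_center_rPart hx dvd_rfl, S.relIndex_rPart_sylow hx dvd_rfl P, pow_two]

end Sizes

end H27.CMN
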